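import Cfsg.Agent.Lib.WRFusion.NoIndexTwo
import Cfsg.Agent.Lib.PCore.Basic
import Cfsg.Prelude.Def_CaseTheorems

/-!
# One class of involutions and trivial odd core: a minimal normal subgroup is simple
-/

set_option autoImplicit false
set_option linter.style.haveILetI false
set_option linter.unusedSectionVars false

namespace Cfsg.Agent.WRFusion

/-- If all involutions are conjugate, some two of them do not commute and `O(G) = 1`, then `G` has a
simple nonabelian normal subgroup containing all involutions. -/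
theorem exists_simple_normal {G : Type*} [Group G] [Finite G] (hO : Cfsg.oddCore G = ⊥)
    (hone : ∀ a b : G, orderOf a = 2 → orderOf b = 2 → IsConj a b) {a b : G} (ha : orderOf a = 2)
    (hb : orderOf b = 2) (hab : a * b ≠ b * a) :
    ∃ L : Subgroup G, L.Normal ∧ IsSimpleGroup L ∧ ¬ IsMulCommutative L ∧ ∀ t : G, orderOf t = 2 → t ∈ L := by
  haveI : Fact (Nat.Prime 2) := ⟨Nat.prime_two⟩
  have htop : (⊤ : Subgroup G) ≠ ⊥ := fun e => by
    have h1 : a ∈ (⊥ : Subgroup G) := e ▸ Subgroup.mem_top a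
    rw [Subgroup.mem_bot] at h1
    rw [h1, orderOf_one] at ha
    omega
  -- a minimal normal subgroup
  obtain ⟨L, ⟨hLn, hLne⟩, hLmin⟩ := Set.exists_min_image {N : Subgroup G | N.Normal ∧ N ≠ ⊥}
    (fun N => Nat.card N) (Set.toFinite _) ⟨⊤, inferInstance, htop⟩
  haveI := hLn
  have hminL : ∀ N : Subgroup G, N.Normal → N ≤ L → N ≠ ⊥ → N = L := fun N hN hle hne =>
    Subgroup.eq_of_le_of_card_ge hle (hLmin N ⟨hN, hne⟩)
  have hodd : ∀ N : Subgroup G, N.Normal → Odd (Nat.card N) → N = ⊥ := fun N hN hN' => by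
    haveI := hN
    exact le_bot_iff.mp ((PCore.le_pPrimeCore (Nat.coprime_two_right.mpr hN')).trans hO.le)
  obtain ⟨t₀, ht₀L, ht₀⟩ : ∃ t ∈ L, orderOf t = 2 := by
    have h2 : 2 ∣ Nat.card L := by
      by_contra h
      exact hLne (hodd L hLn (Nat.odd_iff.mpr (Nat.two_dvd_ne_zero.mp h)))
    obtain ⟨t, ht⟩ := exists_prime_orderOf_dvd_card' (G := L) 2 h2
    exact ⟨t, t.2, by rw [Subgroup.orderOf_coe]; exact ht⟩
  have hall : ∀ t : G, orderOf t = 2 → t ∈ L := fun t ht => by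
    obtain ⟨g, hg⟩ := isConj_iff.mp (hone t₀ t ht₀ ht)
    rw [← hg]
    exact hLn.conj_mem _ ht₀L g
  have hLab : ¬ IsMulCommutative L := fun hc => by
    haveI := hc
    exact hab (congrArg Subtype.val (mul_comm' (⟨a, hall a ha⟩ : L) ⟨b, hall b hb⟩))
  refine ⟨L, hLn, ?_, hLab, hall⟩
  haveI : Nontrivial L := (Subgroup.nontrivial_iff_ne_bot L).mpr hLne
  refine ⟨fun H hH => ?_⟩
  by_contra hcon
  push_neg at hcon
  obtain ⟨hHne, hHtop⟩ := hcon
  -- a minimal normal subgroup of `L`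
  obtain ⟨T₁, ⟨hT₁n, hT₁ne, hT₁top⟩, hT₁min⟩ :=
    Set.exists_min_image {N : Subgroup L | N.Normal ∧ N ≠ ⊥ ∧ N ≠ ⊤} (fun N => Nat.card N)
      (Set.toFinite _) ⟨H, hH, hHne, hHtop⟩
  haveI := hT₁n
  set T := T₁.map L.subtype with hT
  have hTL : T ≤ L := Subgroup.map_subtype_le _
  have hTne : T ≠ ⊥ := fun e => hT₁ne ((Subgroup.map_eq_bot_iff_of_injective _ L.subtype_injective).mp e)
  have hTcard : Nat.card T = Nat.card T₁ := Subgroup.card_map_of_injective L.subtype_injective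
  have hTnorm : ∀ l ∈ L, ∀ s ∈ T, l * s * l⁻¹ ∈ T := by
    rintro l hl _ ⟨s, hs, rfl⟩
    exact ⟨⟨l, hl⟩ * s * ⟨l, hl⟩⁻¹, hT₁n.conj_mem s hs ⟨l, hl⟩, rfl⟩
  -- subgroups of `T` normalised by `L`
  have hsub : ∀ A : Subgroup G, A ≤ T → (∀ l ∈ L, ∀ s ∈ A, l * s * l⁻¹ ∈ A) → A = ⊥ ∨ A = T := by
    intro A hAT hA
    by_cases hA0 : A = ⊥
    · exact Or.inl hA0
    refine Or.inr (Subgroup.eq_of_le_of_card_ge hAT ?_)
    have hAL := hAT.trans hTL
    have hAn : (A.subgroupOf L).Normal := ⟨fun s hs l => hA l l.2 s hs⟩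
    have hA1 : A.subgroupOf L ≠ ⊥ := fun e => hA0 (by
      rw [← Subgroup.map_subgroupOf_eq_of_le hAL, e, Subgroup.map_bot])
    have hA2 : A.subgroupOf L ≠ ⊤ := fun e => hT₁top (by
      rw [eq_top_iff]
      intro l _
      obtain ⟨s, hs, hsl⟩ := hAT (Subgroup.subgroupOf_eq_top.mp e l.2)
      rwa [← show s = l from Subtype.ext hsl])
    have h1 := hT₁min _ ⟨hAn, hA1, hA2⟩
    rw [hTcard]
    exact h1.trans_eq (Nat.card_congr (Subgroup.subgroupOfEquivOfLe hAL).toEquiv)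
  -- a conjugate of `T` equals `T` or commutes with it
  have hdich : ∀ g : G, (∀ s ∈ T, g * s * g⁻¹ ∈ T) ∨
      ((∀ s ∈ T, g * s * g⁻¹ ∈ T → s = 1) ∧ ∀ s ∈ T, ∀ r ∈ T, Commute (g * s * g⁻¹) r) := by
    intro g
    set Tg := T.map (MulAut.conj g).toMonoidHom with hTg
    have hTgn : ∀ l ∈ L, ∀ s ∈ Tg, l * s * l⁻¹ ∈ Tg := by
      rintro l hl _ ⟨s, hs, rfl⟩
      refine ⟨g⁻¹ * l * g * s * (g⁻¹ * l * g)⁻¹, hTnorm _ ?_ s hs, ?_⟩
      · have h1 := hLn.conj_mem l hl g⁻¹
        rwa [inv_inv] at h1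
      · show g * (g⁻¹ * l * g * s * (g⁻¹ * l * g)⁻¹) * g⁻¹ = l * (g * s * g⁻¹) * l⁻¹
        group
    have hTgL : Tg ≤ L := by
      rintro _ ⟨s, hs, rfl⟩
      exact hLn.conj_mem _ (hTL hs) g
    rcases hsub (T ⊓ Tg) inf_le_left (fun l hl s hs => ⟨hTnorm l hl s hs.1, hTgn l hl s hs.2⟩) with h | h
    · right
      refine ⟨fun s hs hs' => ?_, fun s hs r hr => ?_⟩
      · have h1 : g * s * g⁻¹ ∈ T ⊓ Tg := ⟨hs', ⟨s, hs, rfl⟩⟩
        rw [h, Subgroup.mem_bot, conj_eq_one_iff] at h1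
        exact h1
      · set p := g * s * g⁻¹ with hp
        have hpTg : p ∈ Tg := ⟨s, hs, rfl⟩
        have h1 : p * r * p⁻¹ * r⁻¹ ∈ T ⊓ Tg := by
          refine ⟨T.mul_mem (hTnorm p (hTgL hpTg) r hr) (T.inv_mem hr), ?_⟩
          have h2 := Tg.mul_mem hpTg (hTgn r (hTL hr) _ (Tg.inv_mem hpTg))
          rwa [show p * (r * p⁻¹ * r⁻¹) = p * r * p⁻¹ * r⁻¹ by group] at h2
        rw [h, Subgroup.mem_bot] at h1
        exact mul_inv_eq_iff_eq_mul.mp (mul_inv_eq_one.mp h1)
    · left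
      intro s hs
      have h1 : Tg = T := (Subgroup.eq_of_le_of_card_ge (inf_eq_left.mp h)
        (by rw [Subgroup.card_map_of_injective (MulAut.conj g).injective])).symm
      exact h1.le ⟨s, hs, rfl⟩
  -- `T` is not normal in `G`
  obtain ⟨g, hg⟩ : ∃ g : G, ¬ ∀ s ∈ T, g * s * g⁻¹ ∈ T := by
    by_contra hh
    push_neg at hh
    have hTn : T.Normal := ⟨fun s hs k => hh k s hs⟩
    refine hT₁top (Subgroup.map_injective L.subtype_injective ?_)
    rw [← hT, hminL T hTn hTL hTne, ← MonoidHom.range_eq_map, Subgroup.range_subtype]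
  obtain ⟨hg1, hg2⟩ := (hdich g).resolve_left hg
  -- an involution in `T`
  obtain ⟨t, htT, ht⟩ : ∃ t ∈ T, orderOf t = 2 := by
    have h2 : 2 ∣ Nat.card T₁ := by
      by_contra h
      refine hT₁ne (le_bot_iff.mp ?_)
      have h3 : T₁ ≤ Cfsg.pPrimeCore 2 L :=
        PCore.le_pPrimeCore (Nat.coprime_two_right.mpr (Nat.odd_iff.mpr (Nat.two_dvd_ne_zero.mp h)))
      rw [PCore.pPrimeCore_normal_subgroup_eq] at h3
      refine h3.trans (le_of_eq ?_)
      rw [show Cfsg.pPrimeCore 2 G = ⊥ from hO, Subgroup.bot_subgroupOf]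
    obtain ⟨s, hs⟩ := exists_prime_orderOf_dvd_card' (G := T₁) 2 h2
    exact ⟨((s : L) : G), ⟨s, s.2, rfl⟩, by rw [Subgroup.orderOf_coe, Subgroup.orderOf_coe]; exact hs⟩
  -- `T` is abelian
  have hTab : ∀ s ∈ T, ∀ r ∈ T, Commute s r := by
    set t' := g * t * g⁻¹ with ht'
    have ht'T : t' ∉ T := fun h => by
      have := hg1 t htT h
      rw [this, orderOf_one] at ht
      omega
    have htt : Commute t' t := hg2 t htT t htT
    have ht'2 : orderOf t' = 2 := by rw [ht', ← MulAut.conj_apply, MulEquiv.orderOf_eq, ht]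
    have hu : orderOf (t' * t) = 2 := by
      refine orderOf_eq_prime ?_ fun e => ?_
      · rw [htt.mul_pow, show t' ^ 2 = 1 by rw [← ht'2, pow_orderOf_eq_one],
          show t ^ 2 = 1 by rw [← ht, pow_orderOf_eq_one], one_mul]
      · refine ht'T ?_
        rw [eq_inv_of_mul_eq_one_left e]
        exact T.inv_mem htT
    obtain ⟨k, hk⟩ := isConj_iff.mp (hone t _ ht hu)
    have huT : ∀ r ∈ T, Commute (t' * t) r := by
      rcases hdich k with h | ⟨-, h⟩
      · exfalso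
        have h1 := T.mul_mem (h t htT) (T.inv_mem htT)
        rw [hk, mul_inv_cancel_right] at h1
        exact ht'T h1
      · intro r hr
        rw [← hk]
        exact h t htT r hr
    have hcen : ∀ r ∈ T, Commute t r := fun r hr => by
      have h1 := (hg2 t htT r hr).inv_left.mul_left (huT r hr)
      rwa [← ht', inv_mul_cancel_left] at h1
    rcases hsub (T ⊓ Subgroup.centralizer (T : Set G)) inf_le_left (fun l hl s hs => by
      refine Subgroup.mem_inf.mpr ⟨hTnorm l hl s hs.1, ?_⟩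
      rw [Subgroup.mem_centralizer_iff]
      intro r hr
      have h1 : l⁻¹ * r * l ∈ T := by
        have := hTnorm l⁻¹ (L.inv_mem hl) r hr
        rwa [inv_inv] at this
      have h2 := Subgroup.mem_centralizer_iff.mp hs.2 _ h1
      calc r * (l * s * l⁻¹) = l * ((l⁻¹ * r * l) * s) * l⁻¹ := by group
        _ = _ := by rw [h2]; group) with h | h
    · exfalso
      have h1 : t ∈ T ⊓ Subgroup.centralizer (T : Set G) :=
        ⟨htT, Subgroup.mem_centralizer_iff.mpr fun r hr => (hcen r hr).eq.symm⟩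
      rw [h, Subgroup.mem_bot] at h1
      rw [h1, orderOf_one] at ht
      omega
    · intro s hs r hr
      have h1 : s ∈ T ⊓ Subgroup.centralizer (T : Set G) := h.symm ▸ hs
      exact (Subgroup.mem_centralizer_iff.mp h1.2 r hr).symm
  -- the normal closure of `T` is abelian
  have hcomm : ∀ u ∈ Group.conjugatesOfSet (T : Set G), ∀ v ∈ Group.conjugatesOfSet (T : Set G),
      u * v = v * u := by
    intro u hu v hv
    obtain ⟨s, hs, hsu⟩ := Group.mem_conjugatesOfSet_iff.mp hu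
    obtain ⟨r, hr, hrv⟩ := Group.mem_conjugatesOfSet_iff.mp hv
    obtain ⟨i, rfl⟩ := isConj_iff.mp hsu
    obtain ⟨j, rfl⟩ := isConj_iff.mp hrv
    have h1 : Commute (j⁻¹ * i * s * (j⁻¹ * i)⁻¹) r := by
      rcases hdich (j⁻¹ * i) with h | ⟨-, h⟩
      · exact hTab _ (h s hs) r hr
      · exact h s hs r hr
    calc i * s * i⁻¹ * (j * r * j⁻¹) = j * (j⁻¹ * i * s * (j⁻¹ * i)⁻¹ * r) * j⁻¹ := by group
      _ = j * (r * (j⁻¹ * i * s * (j⁻¹ * i)⁻¹)) * j⁻¹ := by rw [h1.eq]
      _ = _ := by group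
  apply hLab
  have hAn : (Subgroup.normalClosure (T : Set G)).Normal := Subgroup.normalClosure_normal
  have hAL : Subgroup.normalClosure (T : Set G) = L := hminL _ hAn (Subgroup.normalClosure_le_normal hTL)
    (fun e => hTne (le_bot_iff.mp (e ▸ Subgroup.le_normalClosure)))
  have key : IsMulCommutative (Subgroup.closure (Group.conjugatesOfSet (T : Set G))) :=
    Subgroup.isMulCommutative_closure hcomm
  rwa [show Subgroup.closure (Group.conjugatesOfSet (T : Set G)) = L from hAL] at key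

/-- A normal subgroup `L` modulo which a Sylow 2-subgroup is cyclic has odd index when `G` has no
subgroup of index two. -/
theorem odd_index_of_sup {G : Type*} [Group G] [Finite G] {S : Sylow 2 G} (L : Subgroup G) [L.Normal]
    (hG : ∀ H : Subgroup G, H.index ≠ 2) (u : G) (hu : u ∈ (S : Subgroup G))
    (hgen : (S : Subgroup G) ≤ L ⊔ Subgroup.zpowers u) : Odd L.index := by
  haveI : Fact (Nat.Prime 2) := ⟨Nat.prime_two⟩
  rw [← Nat.not_even_iff_odd]
  intro hev
  set π := QuotientGroup.mk' L with hπ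
  set P := S.mapSurjective (QuotientGroup.mk'_surjective L) with hP
  have hcyc : IsCyclic (P : Subgroup (G ⧸ L)) := by
    have hle : (P : Subgroup (G ⧸ L)) ≤ Subgroup.zpowers (π u) := by
      rw [hP, Sylow.coe_mapSurjective]
      refine (Subgroup.map_mono hgen).trans ?_
      rw [Subgroup.map_sup, MonoidHom.map_zpowers]
      refine sup_le ?_ le_rfl
      rintro _ ⟨l, hl, rfl⟩
      rw [show π l = 1 from (QuotientGroup.eq_one_iff l).mpr hl]
      exact one_mem _
    exact Subgroup.isCyclic_of_le hle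
  have hmin : (Nat.card (G ⧸ L)).minFac = 2 := by
    rw [Nat.minFac_eq_two_iff, ← Subgroup.index_eq_card]
    exact even_iff_two_dvd.mp hev
  set N := (MonoidHom.transferSylow P (hcyc.normalizer_le_centralizer (p := 2) hmin)).ker with hN
  have hc := MonoidHom.ker_transferSylow_isComplement' P (hcyc.normalizer_le_centralizer (p := 2) hmin)
  obtain ⟨k, hk⟩ := P.2.exists_card_eq
  have hidx : N.index = 2 ^ k := by rw [hc.symm.index_eq_card, hk]
  have hne : N ≠ ⊤ := fun e => by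
    rw [e, Subgroup.index_top] at hidx
    have h2 : 2 ∣ Nat.card (P : Subgroup (G ⧸ L)) :=
      P.dvd_card_of_dvd_card (by rw [← Subgroup.index_eq_card]; exact even_iff_two_dvd.mp hev)
    rw [hk, ← hidx] at h2
    omega
  obtain ⟨H, -, hH⟩ := exists_index_two_of_pgroup_quotient N hidx hne
  exact hG (H.comap π) (by rw [Subgroup.index_comap_of_surjective H (QuotientGroup.mk'_surjective L), hH])

theorem core_structure {G : Type*} [Group G] [Finite G] {S : Sylow 2 G} (hS : QDWR S)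
    (hO : Cfsg.oddCore G = ⊥) (hG : ∀ H : Subgroup G, H.index ≠ 2) :
    ∃ L : Subgroup G, L.Normal ∧ Odd L.index ∧ IsSimpleGroup L ∧ ¬ IsMulCommutative L := by
  have hone := fun a b ha hb => isConj_of_noIndexTwo hS hG (a := a) (b := b) ha hb
  rcases hS with ⟨x, y, m, h⟩ | ⟨m, ⟨W⟩⟩
  · have h0 := QDFusion.orderOf_xy_even h (e := 0) (dvd_zero _)
    have h2 := QDFusion.orderOf_xy_even h (e := 2) dvd_rfl
    obtain ⟨L, hLn, hLs, hLa, hall⟩ := exists_simple_normal hO hone h0 h2 (fun e => by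
      have e' : x ^ (0 : ℤ) * y * (x ^ (2 : ℤ) * y) = x ^ (2 : ℤ) * y * (x ^ (0 : ℤ) * y) := Subtype.ext e
      rw [h.xy_mul_xy, h.xy_mul_xy, h.zpow_eq_iff] at e'
      obtain ⟨c, hc⟩ := e'
      have : (2 : ℤ) ∣ 1 := ⟨2 ^ m - 2 ^ m * c, by
        have hq : (0 : ℤ) < 2 ^ m := by positivity
        linarith⟩
      omega)
    haveI := hLn
    refine ⟨L, hLn, odd_index_of_sup (S := S) L hG (x : G) (SetLike.coe_mem _) ?_, hLs, hLa⟩
    intro s hs
    have hxz : ∀ i : ℤ, ((x ^ i : ↥(S : Subgroup G)) : G) ∈ Subgroup.zpowers (x : G) := fun i =>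
      ⟨i, (Subgroup.coe_zpow _ x i).symm⟩
    obtain ⟨i, hi | hi⟩ := h.exists_form ⟨s, hs⟩
    · rw [show s = ((x ^ i : ↥(S : Subgroup G)) : G) from congrArg Subtype.val hi]
      exact Subgroup.mem_sup_right (hxz i)
    · rw [show s = ((x ^ i * y : ↥(S : Subgroup G)) : G) from congrArg Subtype.val hi,
        show x ^ i * y = x ^ i * (x ^ (0 : ℤ) * y) by rw [TwoGroups.QDGen.x_mul_xy, add_zero], Subgroup.coe_mul]
      exact Subgroup.mul_mem _ (Subgroup.mem_sup_right (hxz i)) (Subgroup.mem_sup_left (hall _ h0))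
  · obtain ⟨L, hLn, hLs, hLa, hall⟩ := exists_simple_normal hO hone W.orderOf_ca W.orderOf_z0 (fun e =>
      W.ca_ne_cb ((mul_inv_eq_iff_eq_mul.mpr e.symm).symm.trans W.conj_ca_z0))
    haveI := hLn
    refine ⟨L, hLn, odd_index_of_sup (S := S) L hG (W.pc 1 0) (W.pc_mem 1 0) ?_, hLs, hLa⟩
    intro s hs
    have hzL : W.z0 ∈ L := hall _ W.orderOf_z0
    set M := L ⊔ Subgroup.zpowers (W.pc 1 0) with hM
    have hx : W.pc 1 0 ∈ M := Subgroup.mem_sup_right (Subgroup.mem_zpowers _)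
    have hz : W.z0 ∈ M := Subgroup.mem_sup_left hzL
    have hy : W.pc 0 1 ∈ M := by
      rw [← W.conj_gx_z0]; exact M.mul_mem (M.mul_mem hz hx) (M.inv_mem hz)
    have hU : ∀ i j, W.pc i j ∈ M := fun i j => by
      rw [W.pc_eq_gens]; exact M.mul_mem (M.zpow_mem hx i) (M.zpow_mem hy j)
    obtain ⟨i, j, rfl | rfl⟩ := W.cases hs
    · exact hU i j
    · rw [show W.pz i j = W.pc i j * W.z0 by rw [WRAmb.z0, W.pc_mul_pz, add_zero, add_zero]]
      exact M.mul_mem (hU i j) hz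

/-- Passage to `G / O(G)`. -/
theorem structure_of_hyp {G : Type*} [Group G] [Finite G] {S : Sylow 2 G} (hS : QDWR S)
    (hG : ∀ H : Subgroup G, H.index ≠ 2) :
    ∃ L : Subgroup (G ⧸ Cfsg.oddCore G), L.Normal ∧ Odd L.index ∧ IsSimpleGroup L ∧
      ¬ IsMulCommutative L := by
  haveI : Fact (Nat.Prime 2) := ⟨Nat.prime_two⟩
  set π := QuotientGroup.mk' (Cfsg.oddCore G) with hπ
  have hinj : Function.Injective (π.domRestrict (S : Subgroup G)) := by
    refine (injective_iff_map_eq_one _).mpr fun s hs => ?_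
    have hmem : (s : G) ∈ Cfsg.oddCore G := (QuotientGroup.eq_one_iff (s : G)).mp hs
    obtain ⟨k, hk⟩ := IsPGroup.iff_orderOf.mp S.2 s
    rw [← orderOf_eq_one_iff]
    refine Nat.eq_one_of_dvd_coprimes ((PCore.coprime_card_pPrimeCore (p := 2) (G := G)).symm.pow_left k)
      hk.dvd ?_
    rw [← Subgroup.orderOf_coe]
    exact Subgroup.orderOf_dvd_natCard _ hmem
  refine core_structure (S := S.mapSurjective (QuotientGroup.mk'_surjective _))
    (qdwr_map ((MonoidHom.ofInjective hinj).trans (MulEquiv.subgroupCongr ?_)) hS)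
    PCore.pPrimeCore_quotient_self_eq_bot fun H hH => hG (H.comap π) ?_
  · rw [Sylow.coe_mapSurjective, MonoidHom.domRestrict_range]
  · rw [Subgroup.index_comap_of_surjective H (QuotientGroup.mk'_surjective _), hH]

end Cfsg.Agent.WRFusion
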