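import Cfsg.Agent.Lib.WRFusion.Hom
import Cfsg.Agent.Lib.QDFusion.Basic

/-!
# Wreathed Sylow 2-subgroups: generators adapted to given `U` and `Q`, class counts
-/

set_option autoImplicit false
set_option linter.style.haveILetI false
set_option linter.unusedSectionVars false

namespace Cfsg.Agent.WRFusion

open TwoGroups

theorem q8_conj : ∀ a b : QuaternionGroup 2, b * a * b⁻¹ = a ∨ b * a * b⁻¹ = a⁻¹ := by decide

theorem q8_pow_four : ∀ a : QuaternionGroup 2, a ^ 4 = 1 := by decide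

theorem q8_commute : ∀ a b : QuaternionGroup 2, a ^ 2 ≠ 1 → b * a = a * b →
    b = 1 ∨ b = a ∨ b = a * a ∨ b = a * a * a := by decide

theorem q8_not_central : ∀ a : QuaternionGroup 2, a ^ 2 ≠ 1 → ∃ b, b * a ≠ a * b := by decide

theorem q8_invol_central : ∀ a b : QuaternionGroup 2, a ^ 2 = 1 → b * a = a * b := by decide

theorem card_classes_three {G : Type*} [Group G] {n : ℕ} {a b c : G} (ha : orderOf a = n)
    (hb : orderOf b = n) (hc : orderOf c = n) (hab : ¬ IsConj a b) (hac : ¬ IsConj a c) (hbc : ¬ IsConj b c)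
    (h : ∀ u : G, orderOf u = n → IsConj u a ∨ IsConj u b ∨ IsConj u c) :
    Nat.card {C : ConjClasses G // ∃ t : G, orderOf t = n ∧ ConjClasses.mk t = C} = 3 := by
  have e : {C : ConjClasses G | ∃ t : G, orderOf t = n ∧ ConjClasses.mk t = C} =
      {ConjClasses.mk a, ConjClasses.mk b, ConjClasses.mk c} := by
    ext C
    simp only [Set.mem_setOf_eq, Set.mem_insert_iff, Set.mem_singleton_iff]
    constructor
    · rintro ⟨t, ht, rfl⟩
      simpa only [ConjClasses.mk_eq_mk_iff_isConj] using h t ht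
    · rintro (rfl | rfl | rfl)
      exacts [⟨a, ha, rfl⟩, ⟨b, hb, rfl⟩, ⟨c, hc, rfl⟩]
  show Nat.card {C : ConjClasses G | ∃ t : G, orderOf t = n ∧ ConjClasses.mk t = C} = 3
  rw [e, Nat.card_coe_set_eq, Set.ncard_insert_of_notMem (by
      simp only [Set.mem_insert_iff, Set.mem_singleton_iff, ConjClasses.mk_eq_mk_iff_isConj]; tauto) (Set.toFinite _),
    Set.ncard_pair (fun e => hbc (ConjClasses.mk_eq_mk_iff_isConj.mp e))]

variable {G : Type*} [Group G] [Finite G] {S : Sylow 2 G} {m : ℕ}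

/-- Replace `z` by a conjugate under `x ^ d`. -/
theorem exists_shift (W : WRAmb S m) (d : ℤ) :
    ∃ W' : WRAmb S m, (∀ i j, W'.pc i j = W.pc i j) ∧ ∀ i j, W'.pz i j = W.pz (i + d) (j - d) := by
  set t : ↥(S : Subgroup G) := WRGen.pr W.gx W.gy d 0 with ht
  have hx : t * W.gx * t⁻¹ = W.gx := by
    have := W.gen.conj_pr_by_pr d 0 1 0
    simpa [WRGen.pr, ht] using this
  have hy : t * W.gy * t⁻¹ = W.gy := by
    have := W.gen.conj_pr_by_pr d 0 0 1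
    simpa [WRGen.pr, ht] using this
  have hconj : (t * W.gz * t⁻¹) * W.gx * (t * W.gz * t⁻¹)⁻¹ = W.gy := by
    calc t * W.gz * t⁻¹ * W.gx * (t * W.gz * t⁻¹)⁻¹
        = t * (W.gz * (t⁻¹ * W.gx * t) * W.gz⁻¹) * t⁻¹ := by group
      _ = _ := by
        rw [show t⁻¹ * W.gx * t = W.gx by
          calc t⁻¹ * W.gx * t = t⁻¹ * (t * W.gx * t⁻¹) * t := by rw [hx]
            _ = W.gx := by group, W.gen.conj, hy]
  refine ⟨⟨W.gx, W.gy, t * W.gz * t⁻¹, ⟨W.gen.two_le, W.gen.card, W.gen.ordX, W.gen.comm, W.gen.disj,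
    by rw [← MulAut.conj_apply, MulEquiv.orderOf_eq]; exact W.gen.ordZ, hconj⟩⟩, fun i j => rfl, fun i j => ?_⟩
  show ((WRGen.pr W.gx W.gy i j * (t * W.gz * t⁻¹) : ↥(S : Subgroup G)) : G) = _
  have e : ((t * W.gz * t⁻¹ : ↥(S : Subgroup G)) : G) = W.pc d 0 * W.z0 * (W.pc d 0)⁻¹ := by
    simp [WRAmb.pc, WRAmb.z0, WRAmb.pz, WRGen.pr, ht]
  show W.pc i j * ((t * W.gz * t⁻¹ : ↥(S : Subgroup G)) : G) = _
  rw [e, W.pz_eq_conj_z0, W.pc_mul_pz]
  exact W.pz_congr rfl (by ring)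

/-- Generators adapted to the abelian maximal subgroup and to a quaternion subgroup of order 8. -/
theorem exists_adapted (hS : Cfsg.IsWreathed (S : Subgroup G)) (n : ℕ)
    (hn : Nat.card S = 2 ^ (2 * n + 1)) (U : Subgroup G) (hUS : U ≤ S) (hUab : IsMulCommutative U)
    (hUcard : Nat.card U = 2 ^ (2 * n)) (Q : Subgroup G) (hQS : Q ≤ S) (eQ : Q ≃* QuaternionGroup 2) :
    ∃ m, n = m + 2 ∧ ∃ W : WRAmb S m, U = W.U ∧ Q = W.Q0 := by
  obtain ⟨x, y, z, h⟩ := exists_wrGen_of_card hS hn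
  obtain ⟨m, rfl⟩ : ∃ m, n = m + 2 := ⟨n - 2, by have := h.two_le; omega⟩
  refine ⟨m, rfl, ?_⟩
  let W₁ : WRAmb S m := ⟨x, y, z, h⟩
  -- transport facts from `Q₈`
  have tc : ∀ a b : Q, b * a * b⁻¹ = a ∨ b * a * b⁻¹ = a⁻¹ := fun a b => by
    rcases q8_conj (eQ a) (eQ b) with e | e
    · exact Or.inl (eQ.injective (by simpa using e))
    · exact Or.inr (eQ.injective (by simpa using e))
  have tfour : ∀ a : Q, a ^ 4 = 1 := fun a => eQ.injective (by simpa using q8_pow_four (eQ a))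
  have tcomm : ∀ a b : Q, a ^ 2 ≠ 1 → b * a = a * b → b = 1 ∨ b = a ∨ b = a * a ∨ b = a * a * a := by
    intro a b ha hab
    rcases q8_commute (eQ a) (eQ b) (fun e => ha (eQ.injective (by simpa using e)))
        (by rw [← map_mul, ← map_mul, hab]) with e | e | e | e
    · exact Or.inl (eQ.injective (by simpa using e))
    · exact Or.inr (Or.inl (eQ.injective e))
    · exact Or.inr (Or.inr (Or.inl (eQ.injective (by simpa using e))))
    · exact Or.inr (Or.inr (Or.inr (eQ.injective (by simpa using e))))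
  have tnc : ∀ a : Q, a ^ 2 ≠ 1 → ∃ b, b * a ≠ a * b := fun a ha => by
    obtain ⟨b, hb⟩ := q8_not_central (eQ a) (fun e => ha (eQ.injective (by simpa using e)))
    exact ⟨eQ.symm b, fun e => hb (by simpa using congrArg eQ e)⟩
  have tinv : ∀ a b : Q, a ^ 2 = 1 → b * a = a * b := fun a b ha => eQ.injective (by
    simpa using q8_invol_central (eQ a) (eQ b) (by rw [← map_pow, ha, map_one]))
  -- an element of `Q` outside `U`
  obtain ⟨v, hv, hvU⟩ : ∃ v ∈ Q, v ∉ W₁.U := by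
    by_contra hh
    push_neg at hh
    obtain ⟨b, hb⟩ := q8_not_central (QuaternionGroup.a 1) (by decide)
    apply hb
    have := W₁.U_comm (hh _ (eQ.symm b).2) (hh _ (eQ.symm (QuaternionGroup.a 1)).2)
    have h' : eQ.symm b * eQ.symm (QuaternionGroup.a 1) = eQ.symm (QuaternionGroup.a 1) * eQ.symm b :=
      Subtype.ext this
    simpa using congrArg eQ h'
  obtain ⟨i, j, hij | hij⟩ := W₁.cases (hQS hv)
  · exact absurd (hij ▸ W₁.pc_mem_U i j) hvU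
  subst hij
  set w : Q := ⟨_, hv⟩ with hw
  have hw2 : w ^ 2 ≠ 1 := by
    intro e
    obtain ⟨u, hu, hvu⟩ : ∃ u ∈ Q, u * W₁.pz i j ≠ W₁.pz i j * u := by
      by_contra hh
      push_neg at hh
      -- `v` would be a central involution, but the centre of `S` lies in `U`
      by_cases hall : ∀ u ∈ Q, u ∈ W₁.U ∨ u * (W₁.pz i j)⁻¹ ∈ W₁.U
      · obtain ⟨b, hb⟩ := q8_not_central (QuaternionGroup.a 1) (by decide)
        apply hb
        have key : ∀ u₁ ∈ Q, ∀ u₂ ∈ Q, u₁ * u₂ = u₂ * u₁ := by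
          intro u₁ h₁ u₂ h₂
          have hcz : ∀ u ∈ Q, Commute u (W₁.pz i j) := hh
          have split : ∀ u ∈ Q, ∃ p ∈ W₁.U, Commute p (W₁.pz i j) ∧ (u = p ∨ u = p * W₁.pz i j) := by
            intro u hu
            rcases hall u hu with h' | h'
            · exact ⟨u, h', hcz u hu, Or.inl rfl⟩
            · exact ⟨_, h', (hcz u hu).mul_left (Commute.refl _).inv_left,
                Or.inr (by rw [inv_mul_cancel_right])⟩
          obtain ⟨p₁, hp₁, hc₁, e₁⟩ := split u₁ h₁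
          obtain ⟨p₂, hp₂, hc₂, e₂⟩ := split u₂ h₂
          have hpp : Commute p₁ p₂ := W₁.U_comm hp₁ hp₂
          rcases e₁ with rfl | rfl <;> rcases e₂ with rfl | rfl
          · exact hpp.eq
          · exact (hpp.mul_right hc₁).eq
          · exact (hpp.mul_left hc₂.symm).eq
          · exact ((hpp.mul_right hc₁).mul_left (hc₂.symm.mul_right (Commute.refl _))).eq
        have h' : eQ.symm b * eQ.symm (QuaternionGroup.a 1) = eQ.symm (QuaternionGroup.a 1) * eQ.symm b :=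
          Subtype.ext (key _ (eQ.symm b).2 _ (eQ.symm (QuaternionGroup.a 1)).2)
        simpa using congrArg eQ h'
      · apply hall
        intro u hu
        obtain ⟨k, l, rfl | rfl⟩ := W₁.cases (hQS hu)
        · exact Or.inl (W₁.pc_mem_U k l)
        · exact Or.inr (by rw [W₁.pz_inv, W₁.pz_mul_pz]; exact W₁.pc_mem_U _ _)
    exact hvu (congrArg Subtype.val (tinv w ⟨u, hu⟩ e))
  have hw4 : W₁.pz i j ^ 4 = 1 := congrArg Subtype.val (tfour w)
  have hw2' : W₁.pz i j ^ 2 ≠ 1 := fun e => hw2 (Subtype.ext e)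
  rw [W₁.pz_sq] at hw2'
  rw [show 4 = 2 * 2 from rfl, pow_mul, W₁.pz_sq, W₁.pc_sq, W₁.pc_eq_one] at hw4
  obtain ⟨⟨c, hc⟩, -⟩ := hw4
  obtain ⟨d, rfl⟩ : ∃ d, c = 2 * d + 1 := by
    rcases Int.even_or_odd' c with ⟨d, hd | hd⟩
    · exact absurd (W₁.pc_eq_one.2 ⟨⟨d, by rw [hd] at hc; linarith⟩, ⟨d, by rw [hd] at hc; linarith⟩⟩) hw2'
    · exact ⟨d, hd⟩
  obtain ⟨W, hWpc, hWpz⟩ := exists_shift W₁ (i - 2 ^ m)
  refine ⟨W, ?_, ?_⟩
  · refine W.eq_U_of_abelian hUS (fun a ha b hb => ?_) hUcard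
    have := hUab
    exact congrArg Subtype.val (mul_comm' (⟨a, ha⟩ : U) ⟨b, hb⟩)
  have hg0 : W.pz (2 ^ m) (2 ^ m) = W₁.pz i j := by
    rw [hWpz, W₁.pz_eq_pz]; exact ⟨⟨0, by ring⟩, ⟨-d, by linarith⟩⟩
  have hgQ : W.pz (2 ^ m) (2 ^ m) ∈ Q := hg0 ▸ hv
  set g : Q := ⟨_, hgQ⟩ with hg
  have hg2 : g ^ 2 ≠ 1 := fun e => by
    have := congrArg Subtype.val e
    rw [Subgroup.coe_pow, hg, W.pz_sq, Subgroup.coe_one, W.pc_eq_one] at this
    obtain ⟨⟨c, hc⟩, -⟩ := this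
    have := four_dvd_of_mul (m := m) (e := 2) ⟨c, by linarith⟩
    omega
  -- elements of `Q` inside `U`
  have hQU : ∀ k l, W.pc k l ∈ Q → W.pc k l ∈ W.Q0 := by
    intro k l hkl
    set t : Q := ⟨_, hkl⟩ with ht
    rcases tc t g with e | e
    · rcases tcomm g t hg2 (mul_inv_eq_iff_eq_mul.mp e).symm with e' | e' | e' | e'
      · rw [show W.pc k l = 1 from congrArg Subtype.val e']; exact W.Q0.one_mem
      · exact absurd (congrArg Subtype.val e') (W.pc_ne_pz _ _ _ _)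
      · have h1 : W.pc k l = W.pz (2 ^ m) (2 ^ m) * W.pz (2 ^ m) (2 ^ m) := congrArg Subtype.val e'
        rw [h1]
        have h2 : W.pz (2 ^ m) (2 ^ m) ∈ W.Q0 := ⟨_, _, dvd_rfl, Or.inr ⟨rfl, 0, by ring⟩⟩
        exact W.Q0.mul_mem h2 h2
      · have h1 : W.pc k l = W.pz (2 ^ m) (2 ^ m) * W.pz (2 ^ m) (2 ^ m) * W.pz (2 ^ m) (2 ^ m) :=
          congrArg Subtype.val e'
        rw [W.pz_mul_pz, W.pc_mul_pz] at h1
        exact absurd h1 (W.pc_ne_pz _ _ _ _)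
    · have h1 : W.pz (2 ^ m) (2 ^ m) * W.pc k l * (W.pz (2 ^ m) (2 ^ m))⁻¹ = (W.pc k l)⁻¹ :=
        congrArg Subtype.val e
      rw [W.conj_pc_by_pz, W.pc_inv, W.pc_eq_pc] at h1
      have h4 : W.pc k l ^ 4 = 1 := congrArg Subtype.val (tfour t)
      rw [show 4 = 2 * 2 from rfl, pow_mul, W.pc_sq, W.pc_sq, W.pc_eq_one] at h4
      obtain ⟨⟨c₁, hc₁⟩, -⟩ := h4
      obtain ⟨⟨c₂, hc₂⟩, -⟩ := h1
      exact ⟨k, l, ⟨c₁, by linarith⟩, Or.inl ⟨rfl, ⟨c₂, by linarith⟩⟩⟩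
  -- `u0 ∈ Q`
  have hu0 : W.pc (2 ^ m) (-(2 ^ m)) ∈ Q := by
    obtain ⟨b, hb⟩ := tnc g hg2
    obtain ⟨k, l, hkl, hnc⟩ : ∃ k l, W.pc k l ∈ Q ∧
        W.pc k l * W.pz (2 ^ m) (2 ^ m) ≠ W.pz (2 ^ m) (2 ^ m) * W.pc k l := by
      obtain ⟨k, l, e | e⟩ := W.cases (hQS b.2)
      · refine ⟨k, l, e ▸ b.2, fun h' => hb (Subtype.ext ?_)⟩
        simp only [Subgroup.coe_mul, hg, e]
        exact h'
      · refine ⟨k - 2 ^ m, l - 2 ^ m, ?_, fun h' => hb (Subtype.ext ?_)⟩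
        · have h1 := Q.mul_mem b.2 (Q.inv_mem hgQ)
          rwa [e, W.pz_inv, W.pz_mul_pz, W.pc_congr (show k + -(2 ^ m) = k - 2 ^ m by ring)
            (show l + -(2 ^ m) = l - 2 ^ m by ring)] at h1
        · simp only [Subgroup.coe_mul, hg, e]
          have e2 : W.pz k l = W.pc (k - 2 ^ m) (l - 2 ^ m) * W.pz (2 ^ m) (2 ^ m) := by
            rw [W.pc_mul_pz]; exact W.pz_congr (by ring) (by ring)
          rw [e2, ← mul_assoc, h']
    obtain ⟨k', l', ⟨f, rfl⟩, ⟨e, c', hc'⟩ | ⟨e, -⟩⟩ := hQU k l hkl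
    swap
    · exact absurd e (W.pc_ne_pz _ _ _ _)
    rw [e] at hkl hnc
    rw [W.pc_mul_pz, W.pz_mul_pc] at hnc
    rcases Int.even_or_odd' f with ⟨f', rfl | rfl⟩
    · exact absurd (W.pz_eq_pz.2 ⟨⟨f' - c', by linarith⟩, ⟨c' - f', by linarith⟩⟩) hnc
    · rcases Int.even_or_odd' f' with ⟨r, rfl | rfl⟩
      · rwa [show W.pc (2 ^ m) (-(2 ^ m)) = W.pc (2 ^ m * (2 * (2 * r) + 1)) l' from
          W.pc_eq_pc.2 ⟨⟨-r, by ring⟩, ⟨r - c', by linarith⟩⟩]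
      · have h1 := Q.inv_mem hkl
        rwa [W.pc_inv, show W.pc (-(2 ^ m * (2 * (2 * r + 1) + 1))) (-l') = W.pc (2 ^ m) (-(2 ^ m)) from
          W.pc_eq_pc.2 ⟨⟨-r - 1, by ring⟩, ⟨r + 1 - c', by linarith⟩⟩] at h1
  refine le_antisymm (fun t ht => ?_) ?_
  · obtain ⟨k, l, rfl | rfl⟩ := W.cases (hQS ht)
    · exact hQU k l ht
    · have h1 := Q.mul_mem ht (Q.inv_mem hgQ)
      rw [W.pz_inv, W.pz_mul_pz] at h1
      have h2 : W.pz (2 ^ m) (2 ^ m) ∈ W.Q0 := ⟨_, _, dvd_rfl, Or.inr ⟨rfl, 0, by ring⟩⟩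
      have h3 := W.Q0.mul_mem (hQU _ _ h1) h2
      rwa [W.pc_mul_pz, W.pz_congr (show k + -(2 ^ m) + 2 ^ m = k by ring)
        (show l + -(2 ^ m) + 2 ^ m = l by ring)] at h3
  · have hpow : ∀ k l : ℤ, (2 : ℤ) ^ m ∣ k → (4 : ℤ) * 2 ^ m ∣ k + l → W.pc k l ∈ Q := by
      rintro _ l ⟨f, rfl⟩ ⟨c, hc⟩
      have := Q.zpow_mem hu0 f
      rwa [W.pc_zpow, show W.pc (f * 2 ^ m) (f * -(2 ^ m)) = W.pc (2 ^ m * f) l from
        W.pc_eq_pc.2 ⟨⟨0, by ring⟩, ⟨-c, by linarith⟩⟩] at this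
    rintro _ ⟨k, l, hk, ⟨rfl, hd⟩ | ⟨rfl, c, hc⟩⟩
    · exact hpow k l hk hd
    · have h1 := hpow (k - 2 ^ m) (l - 2 ^ m) (dvd_sub hk dvd_rfl) ⟨c, by linarith⟩
      have := Q.mul_mem h1 hgQ
      rwa [W.pc_mul_pz, W.pz_congr (sub_add_cancel k _) (sub_add_cancel l _)] at this

end Cfsg.Agent.WRFusion
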