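import Cfsg.Agent.Lib.WRFusion.NoIndexTwo
import Cfsg.Agent.S1205

/-!
# The centraliser of an involution, quasi-dihedral or wreathed Sylow 2-subgroup, no subgroup of index two
-/

set_option autoImplicit false
set_option linter.style.haveILetI false
set_option linter.unusedSectionVars false

namespace Cfsg.Agent.WRFusion

open TwoGroups

/-- The conclusion of the structure theorem for a group `C` with Sylow 2-subgroup `R`. -/
def CentralizerShape {C : Type*} [Group C] (R : Sylow 2 C) : Prop :=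
  (∃ K : Subgroup C, K.Normal ∧ (∃ a : ℕ, K.index = 2 ^ a) ∧ (∀ H : Subgroup K, H.index ≠ 2) ∧
    ∀ P : Sylow 2 K, ∃ m : ℕ, 1 ≤ m ∧ Nonempty ((P : Subgroup K) ≃* QuaternionGroup (2 ^ m))) ∧
  ∀ Z₀ : Subgroup C, Z₀ ≤ (Subgroup.center (R : Subgroup C)).map (R : Subgroup C).subtype →
    Cfsg.IsWeaklyClosed Z₀ (R : Subgroup C)

theorem isWeaklyClosed_of_card_two {G : Type*} [Group G] [Finite G] {Z P Z₀ : Subgroup G}
    (hZ : Cfsg.IsWeaklyClosed Z P) (hcard : Nat.card Z = 2) (hle : Z₀ ≤ Z) :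
    Cfsg.IsWeaklyClosed Z₀ P := by
  rcases (Nat.dvd_prime Nat.prime_two).mp (hcard ▸ Subgroup.card_dvd_of_le hle) with h1 | h2
  · rw [Subgroup.card_eq_one] at h1
    subst h1
    exact ⟨bot_le, fun g _ => Subgroup.map_bot _⟩
  · rwa [Subgroup.eq_of_le_of_card_ge hle (by omega)]

theorem eq_of_isConj_central {G : Type*} [Group G] {a b : G}
    (hb : ∀ g : G, Commute g b) (h : IsConj a b) : a = b := by
  obtain ⟨g, hg⟩ := isConj_iff.mp h.symm
  rw [← hg, (hb g).eq, mul_inv_cancel_right]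

theorem centralizerShape {G : Type*} [Group G] [Finite G] {S : Sylow 2 G} (hS : QDWR S)
    (hG : ∀ H : Subgroup G, H.index ≠ 2) {a : G} (ha : orderOf a = 2) (haS : a ∈ (S : Subgroup G))
    (hle : (S : Subgroup G) ≤ Subgroup.centralizer ({a} : Set G)) :
    CentralizerShape (S.subtype hle) := by
  set C := Subgroup.centralizer ({a} : Set G) with hC
  set R := S.subtype hle with hR
  let e : ↥(S : Subgroup G) ≃* ↥(R : Subgroup C) := (Subgroup.subgroupOfEquivOfLe hle).symm
  have heval : ∀ s, (((e s : ↥(R : Subgroup C)) : C) : G) = (s : G) := fun s => rfl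
  have haC : a ∈ C := Subgroup.mem_centralizer_singleton_iff.mpr rfl
  have hcentral : ∀ c : C, Commute c (⟨a, haC⟩ : C) := fun c =>
    Subtype.ext (Subgroup.mem_centralizer_singleton_iff.mp c.2)
  have hacen : ∀ s ∈ (S : Subgroup G), s * a = a * s := fun s hs =>
    Subgroup.mem_centralizer_singleton_iff.mp (hle hs)
  rcases hS with ⟨x, y, m, h⟩ | ⟨m, ⟨W⟩⟩
  · have hazz : a = ((QDFusion.zz x m : ↥(S : Subgroup G)) : G) := by
      rcases QDFusion.eq_zz_or_xy h (g := ⟨a, haS⟩) (by rw [Subgroup.orderOf_mk, ha]) with e1 | ⟨i, -, e1⟩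
      · exact congrArg Subtype.val e1
      · exfalso
        refine h.xy_not_mem_center i ?_
        rw [← e1, Subgroup.mem_center_iff]
        exact fun s => Subtype.ext (hacen s s.2)
    have h' : QDGen (e x) (e y) m := qdGen_map h e
    have hzz : (QDFusion.zz (S := R) (e x) m : ↥(R : Subgroup C)) = e (QDFusion.zz x m) :=
      (map_zpow e x _).symm
    have haa : (QDFusion.aa (S := R) (e x) m : ↥(R : Subgroup C)) = e (QDFusion.aa x m) :=
      (map_zpow e x _).symm
    have hR' : Cfsg.IsQuasiDihedral (R : Subgroup C) := by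
      refine ⟨m + 3, by omega, ?_, e x, e y, ?_, h'.ordY, ?_⟩
      · rw [h'.card]; ring
      · rw [h'.ordX]; ring
      · rw [h'.conj, ← zpow_natCast, show m + 3 - 1 = m + 2 by omega, Nat.cast_sub Nat.one_le_two_pow]
        congr 1; push_cast; ring
    obtain ⟨T', hT', hTS'⟩ := qd_klein h'
    obtain ⟨Q', hQS', ⟨eQ'⟩⟩ := qd_quaternion h'
    obtain ⟨r₁, r₂⟩ := S1203.result R hR' T' hT' hTS' Q' hQS' eQ'
    have h₁ := r₁.resolve_right fun h6 => by
      have hc := QDFusion.isConj_zz_of_six h' hT' hTS' h6 (QDFusion.orderOf_xy_even h' (e := 0) (dvd_zero _))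
      have hzC : ((QDFusion.zz (S := R) (e x) m : ↥(R : Subgroup C)) : C) = ⟨a, haC⟩ :=
        Subtype.ext (by rw [hzz, heval, ← hazz])
      rw [hzC] at hc
      have h0 := congrArg Subtype.val (eq_of_isConj_central hcentral hc)
      rw [← map_zpow, ← map_mul, heval] at h0
      exact h.xy_ne 0 _ (Subtype.ext (h0.trans hazz))
    have h₂ := r₂.resolve_left fun h2 => by
      refine QDFusion.not_isConj_aa_of_two h' eQ' hQS' h2 ?_
      obtain ⟨T, hT, hTS⟩ := qd_klein h
      obtain ⟨Q, hQS, ⟨eQ⟩⟩ := qd_quaternion h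
      have hSq : Cfsg.IsQuasiDihedral (S : Subgroup G) := by
        refine ⟨m + 3, by omega, ?_, x, y, ?_, h.ordY, ?_⟩
        · rw [h.card]; ring
        · rw [h.ordX]; ring
        · rw [h.conj, ← zpow_natCast, show m + 3 - 1 = m + 2 by omega, Nat.cast_sub Nat.one_le_two_pow]
          congr 1; push_cast; ring
      have h6 := (S1203.result S hSq T hT hTS Q hQS eQ).2.resolve_left fun h2' => by
        obtain ⟨M, -, hM, -⟩ :=
          QDFusion.exists_index_two_missing_four h (QDFusion.not_isConj_aa_of_two h eQ hQS h2')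
        exact hG M hM
      obtain ⟨g, hg⟩ := isConj_iff.mp
        (QDFusion.isConj_aa_of_six h eQ hQS h6 (QDFusion.orderOf_xy_odd h (e := 1) (by norm_num))).symm
      have haa2 : (QDFusion.aa x m) ^ 2 = QDFusion.zz x m := by
        rw [← zpow_natCast, ← zpow_mul]; exact congrArg (x ^ ·) (by push_cast; ring)
      have hxy2 : (x ^ (1 : ℤ) * y) ^ 2 = QDFusion.zz x m := by
        rw [h.xy_sq, mul_one]
      have hgC : g ∈ C := by
        have hsq : g * a * g⁻¹ = a := by
          have h1 := congrArg (· ^ 2) hg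
          simp only [conj_pow] at h1
          rw [← Subgroup.coe_pow, ← Subgroup.coe_pow, haa2, hxy2, ← hazz] at h1
          exact h1
        exact Subgroup.mem_centralizer_singleton_iff.mpr (mul_inv_eq_iff_eq_mul.mp hsq)
      refine isConj_iff.mpr ⟨⟨g, hgC⟩, Subtype.ext ?_⟩
      rw [Subgroup.coe_mul, Subgroup.coe_mul, Subgroup.coe_inv, ← map_zpow, ← map_mul, heval, haa, heval]
      exact hg
    obtain ⟨⟨K, hKn, hK, hKs, hKi⟩, hwc, -⟩ := S1205.result R hR' T' hT' hTS' Q' hQS' eQ' h₁ h₂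
    exact ⟨⟨K, hKn, ⟨1, hK⟩, hKi, hKs⟩, fun Z₀ hZ₀ => isWeaklyClosed_of_card_two hwc
      (by rw [Subgroup.card_map_of_injective (Subgroup.subtype_injective _), h'.card_center]) hZ₀⟩
  · have hacc : a = W.cc := by
      rcases W.involution_cases haS ha with e1 | e1 | e1 | ⟨d, e1⟩
      · exfalso
        have h1 := hacen _ (W.pz_mem 0 0)
        rw [e1] at h1
        exact W.ca_ne_cb ((mul_inv_eq_iff_eq_mul.mpr h1).symm.trans W.conj_ca_z0)
      · exfalso
        have h1 := hacen _ (W.pz_mem 0 0)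
        rw [e1] at h1
        exact W.ca_ne_cb (W.conj_cb_z0.symm.trans (mul_inv_eq_iff_eq_mul.mpr h1))
      · exact e1
      · exfalso
        have h1 := hacen _ (W.pc_mem 1 0)
        rw [e1, W.pc_mul_pz, W.pz_mul_pc, W.pz_eq_pz, show (1 : ℤ) + d - (d + 0) = 1 by ring] at h1
        exact WRAmb.not_dvd_one_q h1.1
    let W' : WRAmb R m := ⟨_, _, _, wrGen_map W.gen e⟩
    have hpc : ∀ i j, ((W'.pc i j : C) : G) = W.pc i j := fun i j => by
      show (((WRGen.pr (e W.gx) (e W.gy) i j : ↥(R : Subgroup C)) : C) : G) = _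
      rw [WRGen.pr, ← map_zpow, ← map_zpow, ← map_mul, heval]
      rfl
    have hpz : ∀ i j, ((W'.pz i j : C) : G) = W.pz i j := fun i j => by
      show (((WRGen.pr (e W.gx) (e W.gy) i j * e W.gz : ↥(R : Subgroup C)) : C) : G) = _
      rw [WRGen.pr, ← map_zpow, ← map_zpow, ← map_mul, ← map_mul, heval]
      rfl
    have hcc' : W'.cc = (⟨a, haC⟩ : C) := Subtype.ext ((hpc _ _).trans hacc.symm)
    have h2 : (Subgroup.centralizer (W'.U : Set C)).relIndex (Subgroup.normalizer (W'.U : Set C)) = 2 := by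
      refine W'.relIndex_U.resolve_right fun h6 => W'.ca_ne_cc ?_
      exact eq_of_isConj_central (fun c => hcc' ▸ hcentral c) (W'.isConj_ca_cc_of_six h6)
    have haz : IsConj W'.ca W'.z0 := by
      obtain ⟨n, hn, h1, -⟩ := W.V_cycle (wr_isConj W hG).1 (N := 1) (by norm_num)
      rw [pow_one] at h1
      have hnC : n ∈ C := by
        refine Subgroup.mem_centralizer_singleton_iff.mpr ?_
        rw [hacc]
        exact mul_inv_eq_iff_eq_mul.mp (W.conj_cc_of_mem hn)
      rcases W.mem_pair.1 h1 with e1 | e1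
      · refine isConj_iff.mpr ⟨⟨n, hnC⟩, Subtype.ext ?_⟩
        show n * (W'.pc _ _ : C).1 * n⁻¹ = _
        rw [hpc]
        exact e1.trans (hpz 0 0).symm
      · have hcaC : W.ca ∈ C := hle (W.U_le W.ca_mem_U)
        refine isConj_iff.mpr ⟨⟨W.ca, hcaC⟩ * ⟨n, hnC⟩, Subtype.ext ?_⟩
        show W.ca * n * (W'.pc _ _ : C).1 * (W.ca * n)⁻¹ = _
        rw [hpc, WRAmb.conj_comp]
        show W.ca * (n * W.ca * n⁻¹) * W.ca⁻¹ = _
        rw [e1, W.z0_mul_cc, show ((W'.z0 : C) : G) = W.pz 0 0 from hpz 0 0, WRAmb.ca, W.conj_pz_by_pc,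
          W.pz_eq_pz]
        exact ⟨⟨1, by ring⟩, ⟨0, by ring⟩⟩
    have h6 : (W'.V ⊔ Subgroup.centralizer (W'.V : Set C)).relIndex (Subgroup.normalizer (W'.V : Set C)) = 6 :=
      W'.relIndex_V.resolve_left fun h => (W'.not_isConj_z0_of_two h).1 haz.symm
    obtain ⟨K, hKn, hidx, hKU, hKZ, -⟩ := W'.exists_quaternion_kernel h2 haz
    haveI := hKn
    refine ⟨⟨K, hKn, ⟨m + 2, hidx⟩, fun L hL => ?_, fun P => ?_⟩, fun Z₀ hZ₀ => wr_weaklyClosed W' h2 haz hZ₀⟩
    · refine W'.false_of_inf_le hL fun g hg hgK => ?_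
      have hD : ⁅K, K⁆ ≤ L.map K.subtype := by
        rw [Subgroup.commutator_le]
        intro u hu v hv
        exact ⟨_, comm_mem_of_index_two hL ⟨u, hu⟩ ⟨v, hv⟩, rfl⟩
      exact hD (W'.le_commutator_of_six h6 hidx hKU hKZ hg hgK)
    · obtain ⟨e₁⟩ := W'.nonempty_equiv_inf P
      obtain ⟨e₂⟩ := W'.nonempty_equiv_quaternion hKU hKZ
      exact ⟨m + 1, by omega, ⟨e₁.trans e₂⟩⟩

end Cfsg.Agent.WRFusion
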