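import Cfsg.Agent.Lib.WRFusion.Basic
import Mathlib.GroupTheory.SpecificGroups.Cyclic
import Mathlib.GroupTheory.Perm.Basic

/-!
# Wreathed Sylow 2-subgroups: the automizers of `U` and of `V = Q0 Z(S)`

Both automizers act on a set of three objects and are isomorphic to subgroups of `S₃` of even order:
of order 2 or 6.
-/

set_option autoImplicit false
set_option linter.style.haveILetI false
set_option linter.unusedSectionVars false

namespace Cfsg.Agent.WRFusion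

theorem mem_of_coprime_pows {G : Type*} [Group G] {H : Subgroup G} {g : G} {a b : ℕ}
    (hab : Nat.Coprime a b) (ha : g ^ a ∈ H) (hb : g ^ b ∈ H) : g ∈ H := by
  have h1 : (g ^ a) ^ (Nat.gcdA a b) * (g ^ b) ^ (Nat.gcdB a b) ∈ H :=
    H.mul_mem (H.zpow_mem ha _) (H.zpow_mem hb _)
  rwa [← zpow_natCast g a, ← zpow_natCast g b, ← zpow_mul, ← zpow_mul, ← zpow_add,
    ← Nat.gcd_eq_gcd_ab, show Nat.gcd a b = 1 from hab, Nat.cast_one, zpow_one] at h1

/-- In a surjective action on three points some element has an `N`-th power cycling them. -/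
theorem exists_cycle_pow {α : Type*} {Γ : Type*} [Group Γ] (φ : Γ →* Equiv.Perm α)
    (hφ : Function.Surjective φ) {a b c : α} (hab : a ≠ b) (hac : a ≠ c) (hbc : b ≠ c)
    (hall : ∀ t, t = a ∨ t = b ∨ t = c) {N : ℕ} (hN : ¬ 3 ∣ N) :
    ∃ g : Γ, φ (g ^ N) a = b ∧ φ (g ^ N) b = c ∧ φ (g ^ N) c = a := by
  classical
  set σ : Equiv.Perm α := Equiv.swap a b * Equiv.swap b c with hσ
  have ha : σ a = b := by
    rw [hσ, Equiv.Perm.mul_apply, Equiv.swap_apply_of_ne_of_ne hab hac, Equiv.swap_apply_left]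
  have hb : σ b = c := by
    rw [hσ, Equiv.Perm.mul_apply, Equiv.swap_apply_left, Equiv.swap_apply_of_ne_of_ne hac.symm hbc.symm]
  have hc : σ c = a := by
    rw [hσ, Equiv.Perm.mul_apply, Equiv.swap_apply_right, Equiv.swap_apply_right]
  have h3 : σ ^ 3 = 1 := Equiv.ext fun t => by
    rw [pow_succ, pow_succ, pow_one, Equiv.Perm.mul_apply, Equiv.Perm.mul_apply, Equiv.Perm.one_apply]
    rcases hall t with rfl | rfl | rfl <;> simp [ha, hb, hc]
  obtain ⟨g, hg⟩ := hφ (σ ^ N)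
  have h1 : φ (g ^ N) = σ := by
    rw [map_pow, hg, ← pow_mul, ← Nat.mod_add_div (N * N) 3, pow_add, pow_mul, h3, one_pow, mul_one]
    have : N * N % 3 = 1 := by
      rw [Nat.mul_mod]
      rcases (by omega : N % 3 = 1 ∨ N % 3 = 2) with e | e <;> rw [e]
    rw [this, pow_one]
  exact ⟨g, by rw [h1]; exact ⟨ha, hb, hc⟩⟩

/-- An action on three points has image of order dividing 6; of order 6 it is surjective. -/
theorem card_range_three {α : Type*} {Γ : Type*} [Group Γ] (φ : Γ →* Equiv.Perm α) (h3 : Nat.card α = 3) :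
    Nat.card φ.range ∣ 6 ∧ (Nat.card φ.range = 6 → Function.Surjective φ) := by
  haveI : Finite α := Nat.finite_of_card_ne_zero (by omega)
  have h6 : Nat.card (Equiv.Perm α) = 6 := by rw [Nat.card_perm, h3]; rfl
  refine ⟨h6 ▸ Subgroup.card_subgroup_dvd_card _, fun e => ?_⟩
  rw [← MonoidHom.range_eq_top]
  exact Subgroup.eq_top_of_card_eq _ (e.trans h6.symm)

theorem two_or_six {k : ℕ} (h6 : k ∣ 6) (h2 : 2 ∣ k) : k = 2 ∨ k = 6 := by
  have := Nat.le_of_dvd (by norm_num) h6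
  interval_cases k <;> omega

namespace WRAmb

variable {G : Type*} [Group G] [Finite G] {S : Sylow 2 G} {m : ℕ} (W : WRAmb S m)

/-! ### The automizer of `U` -/

/-- `U` is a maximal 2-subgroup of the centraliser of `⟨ca, cc⟩`. -/
theorem U_max {R : Subgroup G} (hR : IsPGroup 2 R) (hUR : W.U ≤ R)
    (hRa : R ≤ Subgroup.centralizer ({W.ca} : Set G)) (hRc : R ≤ Subgroup.centralizer ({W.cc} : Set G)) :
    R ≤ W.U := by
  haveI : Fact (Nat.Prime 2) := ⟨Nat.prime_two⟩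
  obtain ⟨k, -, hk⟩ := exists_conj_le_sylow (S := S) le_top hR le_top
  have hkU := W.U_conj_eq (g := k) fun u hu => hk u (hUR hu)
  have hmemU : ∀ u ∈ W.U, k * u * k⁻¹ ∈ W.U := fun u hu => by
    rw [← hkU]; exact ⟨u, hu, rfl⟩
  intro r hr
  have h1 : k * r * k⁻¹ ∈ W.U := by
    by_contra h
    obtain ⟨i, j, e | e⟩ := W.cases (hk r hr)
    · exact h (e ▸ W.pc_mem_U i j)
    have hfix : ∀ t ∈ W.U, r * t = t * r → orderOf t = 2 → k * t * k⁻¹ = W.cc := by
      intro t ht hrt ho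
      have hc : k * r * k⁻¹ * (k * t * k⁻¹) = k * t * k⁻¹ * (k * r * k⁻¹) := by
        calc k * r * k⁻¹ * (k * t * k⁻¹) = k * (r * t) * k⁻¹ := by group
          _ = _ := by rw [hrt]; group
      have ho' : orderOf (k * t * k⁻¹) = 2 := by rw [← MulAut.conj_apply, MulEquiv.orderOf_eq, ho]
      rcases W.involution_mem_U (hmemU t ht) ho' with h' | h' | h'
      · exact absurd (W.mem_U_of_commute_pc (hk r hr) (k := 2 * 2 ^ m) (l := 0)
          (fun hd => by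
            rw [sub_zero] at hd
            have := Int.le_of_dvd (by positivity) hd
            have := q_pos m; omega) (by rw [show W.pc (2 * 2 ^ m) 0 = W.ca from rfl, ← h']; exact hc)) h
      · exact absurd (W.mem_U_of_commute_pc (hk r hr) (k := 0) (l := 2 * 2 ^ m)
          (fun hd => by
            rw [zero_sub, dvd_neg] at hd
            have := Int.le_of_dvd (by positivity) hd
            have := q_pos m; omega) (by rw [show W.pc 0 (2 * 2 ^ m) = W.cb from rfl, ← h']; exact hc)) h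
      · exact h'
    have ea := hfix _ W.ca_mem_U (Subgroup.mem_centralizer_singleton_iff.mp (hRa hr)) W.orderOf_ca
    have ec := hfix _ W.cc_mem_U (Subgroup.mem_centralizer_singleton_iff.mp (hRc hr)) W.orderOf_cc
    exact W.ca_ne_cc (mul_left_cancel (mul_right_cancel (ea.trans ec.symm)))
  rw [← hkU] at h1
  obtain ⟨u, hu, e⟩ := h1
  have : r = u := (MulAut.conj k).injective e.symm
  rw [this]; exact hu

/-- An element of `N(U)` fixing the involutions of `U` centralises `U`. -/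
theorem mem_centralizer_U_of_fix {n : G} (hn : n ∈ Subgroup.normalizer (W.U : Set G))
    (ha : n * W.ca * n⁻¹ = W.ca) (hb : n * W.cb * n⁻¹ = W.cb) :
    n ∈ Subgroup.centralizer (W.U : Set G) := by
  haveI : Fact (Nat.Prime 2) := ⟨Nat.prime_two⟩
  set F : Subgroup G := Subgroup.normalizer (W.U : Set G) ⊓
    (Subgroup.centralizer ({W.ca} : Set G) ⊓ Subgroup.centralizer ({W.cc} : Set G)) with hF
  have hc : n * W.cc * n⁻¹ = W.cc := by rw [← ca_mul_cb, ← conj_mul, ha, hb]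
  have hnF : n ∈ F := ⟨hn, Subgroup.mem_centralizer_singleton_iff.mpr (mul_inv_eq_iff_eq_mul.mp ha),
    Subgroup.mem_centralizer_singleton_iff.mpr (mul_inv_eq_iff_eq_mul.mp hc)⟩
  have hUF : W.U ≤ F := fun u hu => ⟨Subgroup.le_normalizer hu,
    Subgroup.mem_centralizer_singleton_iff.mpr (W.U_comm hu W.ca_mem_U),
    Subgroup.mem_centralizer_singleton_iff.mpr (W.U_comm hu W.cc_mem_U)⟩
  obtain ⟨j, r, hr, he⟩ := Nat.exists_eq_two_pow_mul_odd (orderOf_pos n).ne'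
  refine mem_of_coprime_pows (a := r) (b := 2 ^ j) ((Nat.coprime_two_right.mpr hr).pow_right j) ?_ ?_
  · -- the 2-part lies in `U`
    have h2 : IsPGroup 2 (Subgroup.zpowers (n ^ r)) := IsPGroup.of_card (n := j) (by
      rw [Nat.card_zpowers, orderOf_pow_of_dvd hr.pos.ne' ⟨2 ^ j, by rw [he, mul_comm]⟩, he,
        Nat.mul_div_cancel _ hr.pos])
    have hsup : IsPGroup 2 (W.U ⊔ Subgroup.zpowers (n ^ r) : Subgroup G) :=
      IsPGroup.to_sup_of_normal_left' (S.2.to_le W.U_le) h2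
        (Subgroup.zpowers_le.mpr ((pow_mem hn r)))
    have hle : W.U ⊔ Subgroup.zpowers (n ^ r) ≤ F := sup_le hUF (Subgroup.zpowers_le.mpr (pow_mem hnF r))
    exact W.U_le_centralizer (W.U_max hsup le_sup_left (fun t ht => (hle ht).2.1) (fun t ht => (hle ht).2.2)
      (Subgroup.mem_sup_right (Subgroup.mem_zpowers _)))
  · -- the odd part fixes `U` layer by layer
    set f := n ^ 2 ^ j with hf
    have hfr : f ^ r = 1 := by rw [hf, ← pow_mul, ← he, pow_orderOf_eq_one]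
    have hfF : f ∈ F := pow_mem hnF _
    have hfix : ∀ d ∈ W.U, d ^ 2 = 1 → f * d * f⁻¹ = d := by
      intro d hd hd2
      by_cases hd1 : d = 1
      · simp [hd1]
      have fa : f * W.ca * f⁻¹ = W.ca :=
        mul_inv_eq_iff_eq_mul.mpr (Subgroup.mem_centralizer_singleton_iff.mp hfF.2.1)
      have fc : f * W.cc * f⁻¹ = W.cc :=
        mul_inv_eq_iff_eq_mul.mpr (Subgroup.mem_centralizer_singleton_iff.mp hfF.2.2)
      rcases W.involution_mem_U hd (orderOf_eq_prime hd2 hd1) with rfl | rfl | rfl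
      · exact fa
      · have e : W.cb = W.ca⁻¹ * W.cc := by rw [← ca_mul_cb, inv_mul_cancel_left]
        rw [e, ← conj_mul, ← conj_inv, fa, fc]
      · exact fc
    suffices key : ∀ k, ∀ u ∈ W.U, u ^ 2 ^ k = 1 → f * u * f⁻¹ = u by
      rw [Subgroup.mem_centralizer_iff]
      intro u hu
      obtain ⟨k, hk⟩ := IsPGroup.iff_orderOf.mp S.2 ⟨u, W.U_le hu⟩
      rw [Subgroup.orderOf_mk] at hk
      exact (mul_inv_eq_iff_eq_mul.mp (key k u hu (by rw [← hk, pow_orderOf_eq_one]))).symm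
    intro k
    induction k with
    | zero => intro u _ h1; rw [pow_zero, pow_one] at h1; simp [h1]
    | succ k ih =>
      intro u hu h1
      have hfu : f * u * f⁻¹ ∈ W.U := (Subgroup.mem_normalizer_iff.mp hfF.1 u).mp hu
      set d := f * u * f⁻¹ * u⁻¹ with hd
      have hdU : d ∈ W.U := W.U.mul_mem hfu (W.U.inv_mem hu)
      have h2 : f * u ^ 2 * f⁻¹ = u ^ 2 := ih _ (pow_mem hu 2) (by rw [← pow_mul, ← pow_succ']; exact h1)
      have hd2 : d ^ 2 = 1 := by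
        rw [hd, (show Commute (f * u * f⁻¹) u⁻¹ from W.U_comm hfu (W.U.inv_mem hu)).mul_pow, conj_pow, h2,
          inv_pow, mul_inv_cancel]
      have hdf := hfix d hdU hd2
      have hi : ∀ i : ℕ, f ^ i * u * (f ^ i)⁻¹ = d ^ i * u := by
        intro i
        induction i with
        | zero => simp
        | succ i ihi =>
          calc f ^ (i + 1) * u * (f ^ (i + 1))⁻¹ = f * (f ^ i * u * (f ^ i)⁻¹) * f⁻¹ := by
                rw [pow_succ']; group
            _ = f * d ^ i * f⁻¹ * (f * u * f⁻¹) := by rw [ihi]; group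
            _ = d ^ i * (d * u) := by rw [← conj_pow, hdf, hd, inv_mul_cancel_right]
            _ = d ^ (i + 1) * u := by rw [← mul_assoc, pow_succ]
      have h3 := hi r
      rw [hfr, inv_one, mul_one, one_mul] at h3
      have hdr : d ^ r = 1 := mul_eq_right.mp h3.symm
      have hd1 : d = 1 := by
        refine Subgroup.mem_bot.mp (mem_of_coprime_pows (H := ⊥) (Nat.coprime_two_right.mpr hr) ?_ ?_)
        · rw [Subgroup.mem_bot, hdr]
        · rw [Subgroup.mem_bot, hd2]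
      exact mul_inv_eq_one.mp hd1

/-- The action of `N(U)` on the involutions of `U`. -/
noncomputable def permU : Subgroup.normalizer (W.U : Set G) →*
    Equiv.Perm {t : G // t ∈ W.U ∧ orderOf t = 2} where
  toFun n :=
    { toFun := fun t => ⟨n * t.1 * (n : G)⁻¹, (Subgroup.mem_normalizer_iff.mp n.2 _).mp t.2.1, by
        rw [← MulAut.conj_apply, MulEquiv.orderOf_eq]; exact t.2.2⟩
      invFun := fun t => ⟨(n : G)⁻¹ * t.1 * n, (Subgroup.mem_normalizer_iff''.mp n.2 _).mp t.2.1, by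
        have := MulEquiv.orderOf_eq (MulAut.conj (n : G)⁻¹) t.1
        rw [MulAut.conj_apply, inv_inv] at this
        rw [this]; exact t.2.2⟩
      left_inv := fun t => Subtype.ext (by simp only; group)
      right_inv := fun t => Subtype.ext (by simp only; group) }
  map_one' := Equiv.ext fun t => Subtype.ext (by simp)
  map_mul' n n' := Equiv.ext fun t => Subtype.ext (by simp [mul_assoc])

theorem permU_apply (n : Subgroup.normalizer (W.U : Set G)) (t : {t : G // t ∈ W.U ∧ orderOf t = 2}) :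
    (W.permU n t : G) = n * t.1 * (n : G)⁻¹ := rfl

theorem ker_permU :
    W.permU.ker = (Subgroup.centralizer (W.U : Set G)).subgroupOf (Subgroup.normalizer (W.U : Set G)) := by
  ext n
  rw [MonoidHom.mem_ker, Subgroup.mem_subgroupOf]
  constructor
  · intro e
    exact W.mem_centralizer_U_of_fix n.2
      (congrArg Subtype.val (Equiv.congr_fun e ⟨W.ca, W.ca_mem_U, W.orderOf_ca⟩))
      (congrArg Subtype.val (Equiv.congr_fun e ⟨W.cb, W.cb_mem_U, W.orderOf_cb⟩))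
  · intro hc
    refine Equiv.ext fun t => Subtype.ext ?_
    rw [permU_apply, ← Subgroup.mem_centralizer_iff.mp hc _ t.2.1, mul_inv_cancel_right]
    rfl

theorem card_involutions_U : Nat.card {t : G // t ∈ W.U ∧ orderOf t = 2} = 3 := by
  have e : {t : G | t ∈ W.U ∧ orderOf t = 2} = {W.ca, W.cb, W.cc} := by
    ext t
    simp only [Set.mem_setOf_eq, Set.mem_insert_iff, Set.mem_singleton_iff]
    refine ⟨fun ⟨h1, h2⟩ => W.involution_mem_U h1 h2, ?_⟩
    rintro (rfl | rfl | rfl)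
    exacts [⟨W.ca_mem_U, W.orderOf_ca⟩, ⟨W.cb_mem_U, W.orderOf_cb⟩, ⟨W.cc_mem_U, W.orderOf_cc⟩]
  show Nat.card {t : G | t ∈ W.U ∧ orderOf t = 2} = 3
  rw [e, Nat.card_coe_set_eq,
    Set.ncard_insert_of_notMem (by simp [W.ca_ne_cb, W.ca_ne_cc]) (Set.toFinite _),
    Set.ncard_pair W.cb_ne_cc]

theorem relIndex_U_eq :
    (Subgroup.centralizer (W.U : Set G)).relIndex (Subgroup.normalizer (W.U : Set G)) =
      Nat.card W.permU.range := by
  rw [Subgroup.relIndex, ← ker_permU, Subgroup.index_ker]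

theorem z0_not_mem_centralizer_U : W.z0 ∉ Subgroup.centralizer (W.U : Set G) := fun hc =>
  W.pz_not_mem_U 0 0 (W.mem_U_of_centralizes (W.pz_mem 0 0) hc)

theorem relIndex_U :
    (Subgroup.centralizer (W.U : Set G)).relIndex (Subgroup.normalizer (W.U : Set G)) = 2 ∨
      (Subgroup.centralizer (W.U : Set G)).relIndex (Subgroup.normalizer (W.U : Set G)) = 6 := by
  refine two_or_six (W.relIndex_U_eq ▸ (card_range_three _ W.card_involutions_U).1) ?_
  rw [relIndex_U_eq]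
  let z' : Subgroup.normalizer (W.U : Set G) := ⟨W.z0, W.S_le_normalizer_U (W.pz_mem 0 0)⟩
  have h1 : orderOf (W.permU z') = 2 := by
    refine orderOf_eq_prime ?_ fun e => W.z0_not_mem_centralizer_U ?_
    · rw [← map_pow, show z' ^ 2 = 1 from Subtype.ext W.z0_sq, map_one]
    · have : z' ∈ W.permU.ker := e
      rwa [ker_permU] at this
  exact h1.symm.dvd.trans (Subgroup.orderOf_dvd_natCard _ ⟨z', rfl⟩)

theorem U_cycle (h6 : (Subgroup.centralizer (W.U : Set G)).relIndex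
      (Subgroup.normalizer (W.U : Set G)) = 6) {N : ℕ} (hN : ¬ 3 ∣ N) :
    ∃ n ∈ Subgroup.normalizer (W.U : Set G), n ^ N * W.ca * (n ^ N)⁻¹ = W.cb ∧
      n ^ N * W.cb * (n ^ N)⁻¹ = W.cc ∧ n ^ N * W.cc * (n ^ N)⁻¹ = W.ca := by
  rw [relIndex_U_eq] at h6
  obtain ⟨g, h1, h2, h3⟩ := exists_cycle_pow W.permU ((card_range_three _ W.card_involutions_U).2 h6)
    (a := ⟨W.ca, W.ca_mem_U, W.orderOf_ca⟩) (b := ⟨W.cb, W.cb_mem_U, W.orderOf_cb⟩)
    (c := ⟨W.cc, W.cc_mem_U, W.orderOf_cc⟩) (fun e => W.ca_ne_cb (congrArg (fun t : {t : G // t ∈ W.U ∧ orderOf t = 2} => (t : G)) e))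
    (fun e => W.ca_ne_cc (congrArg (fun t : {t : G // t ∈ W.U ∧ orderOf t = 2} => (t : G)) e)) (fun e => W.cb_ne_cc (congrArg (fun t : {t : G // t ∈ W.U ∧ orderOf t = 2} => (t : G)) e))
    (fun t => by
      rcases W.involution_mem_U t.2.1 t.2.2 with e | e | e
      exacts [Or.inl (Subtype.ext e), Or.inr (Or.inl (Subtype.ext e)), Or.inr (Or.inr (Subtype.ext e))]) hN
  exact ⟨g, g.2, congrArg Subtype.val h1, congrArg Subtype.val h2, congrArg Subtype.val h3⟩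

theorem isConj_ca_cc_of_six (h6 : (Subgroup.centralizer (W.U : Set G)).relIndex
    (Subgroup.normalizer (W.U : Set G)) = 6) : IsConj W.ca W.cc := by
  obtain ⟨n, -, -, h2, -⟩ := W.U_cycle h6 (N := 1) (by norm_num)
  exact W.isConj_ca_cb.trans (isConj_iff.mpr ⟨_, h2⟩)

theorem fix_or_swap (h2 : (Subgroup.centralizer (W.U : Set G)).relIndex
      (Subgroup.normalizer (W.U : Set G)) = 2) {g u : G} (hu : u ∈ W.U) (hg : g * u * g⁻¹ ∈ W.U) :
    g * u * g⁻¹ = u ∨ g * u * g⁻¹ = W.z0 * u * W.z0⁻¹ := by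
  obtain ⟨n, hn, e⟩ := W.burnside hu hg
  rw [← e]
  have hz := W.S_le_normalizer_U (W.pz_mem 0 0)
  by_cases hnC : n ∈ Subgroup.centralizer (W.U : Set G)
  · left; rw [← Subgroup.mem_centralizer_iff.mp hnC u hu, mul_inv_cancel_right]
  · right
    have h1 := (Subgroup.mul_mem_iff_of_index_two h2 (a := (⟨n, hn⟩ : Subgroup.normalizer (W.U : Set G)))
      (b := ⟨W.z0, hz⟩)).mpr (iff_of_false hnC W.z0_not_mem_centralizer_U)
    have h1' : n * W.z0 ∈ Subgroup.centralizer (W.U : Set G) := h1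
    have hu' : W.z0⁻¹ * u * W.z0 ∈ W.U := (Subgroup.mem_normalizer_iff''.mp hz u).mp hu
    have h3 := Subgroup.mem_centralizer_iff.mp h1' _ hu'
    have hzz : W.z0⁻¹ = W.z0 := inv_eq_of_mul_eq_one_right (by rw [← pow_two, W.z0_sq])
    calc n * u * n⁻¹ = n * W.z0 * (W.z0⁻¹ * u * W.z0) * (n * W.z0)⁻¹ := by group
      _ = W.z0⁻¹ * u * W.z0 := by rw [← h3, mul_inv_cancel_right]
      _ = W.z0 * u * W.z0⁻¹ := by rw [hzz]

theorem not_isConj_ca_cc_of_two (h2 : (Subgroup.centralizer (W.U : Set G)).relIndex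
    (Subgroup.normalizer (W.U : Set G)) = 2) : ¬ IsConj W.ca W.cc := fun hc => by
  obtain ⟨g, hg⟩ := isConj_iff.mp hc
  rcases W.fix_or_swap h2 W.ca_mem_U (hg ▸ W.cc_mem_U) with e | e
  · exact W.ca_ne_cc (e.symm.trans hg)
  · exact W.cb_ne_cc (by rw [← W.conj_ca_z0, ← e, hg])

/-! ### The automizer of `V = Q0 Z(S)` -/

/-- The quaternion subgroup `⟨x^q y^(-q), x^q y^q z⟩`. -/
noncomputable def Q0 : Subgroup G where
  carrier := {g | ∃ k l : ℤ, 2 ^ m ∣ k ∧ ((g = W.pc k l ∧ (4 : ℤ) * 2 ^ m ∣ k + l) ∨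
    (g = W.pz k l ∧ (4 : ℤ) * 2 ^ m ∣ k + l - 2 * 2 ^ m))}
  one_mem' := ⟨0, 0, dvd_zero _, Or.inl ⟨W.pc_zero.symm, dvd_zero _⟩⟩
  mul_mem' := by
    rintro _ _ ⟨i, j, hi, hh⟩ ⟨k, l, hk, hh'⟩
    rcases hh with ⟨rfl, ⟨c, hc⟩⟩ | ⟨rfl, ⟨c, hc⟩⟩ <;> rcases hh' with ⟨rfl, ⟨d, hd⟩⟩ | ⟨rfl, ⟨d, hd⟩⟩
    · exact ⟨_, _, dvd_add hi hk, Or.inl ⟨W.pc_mul_pc i j k l, c + d, by linarith⟩⟩
    · exact ⟨_, _, dvd_add hi hk, Or.inr ⟨W.pc_mul_pz i j k l, c + d, by linarith⟩⟩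
    · refine ⟨_, _, dvd_add hi ?_, Or.inr ⟨W.pz_mul_pc i j k l, c + d, by linarith⟩⟩
      obtain ⟨e, rfl⟩ := hk
      exact ⟨4 * d - e, by linarith⟩
    · refine ⟨_, _, dvd_add hi ?_, Or.inl ⟨W.pz_mul_pz i j k l, c + d + 1, by linarith⟩⟩
      obtain ⟨e, rfl⟩ := hk
      exact ⟨4 * d + 2 - e, by linarith⟩
  inv_mem' := by
    rintro _ ⟨i, j, ⟨e, rfl⟩, hh⟩
    rcases hh with ⟨rfl, ⟨c, hc⟩⟩ | ⟨rfl, ⟨c, hc⟩⟩
    · exact ⟨_, _, ⟨-e, by ring⟩, Or.inl ⟨W.pc_inv _ _, -c, by linarith⟩⟩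
    · exact ⟨_, _, ⟨e - 4 * c - 2, by linarith⟩, Or.inr ⟨W.pz_inv _ _, -c - 1, by linarith⟩⟩

/-- `V = Q0 Z(S)`. -/
noncomputable def V : Subgroup G where
  carrier := {g | ∃ k l : ℤ, (2 : ℤ) * 2 ^ m ∣ k - l ∧ (g = W.pc k l ∨ g = W.pz k l)}
  one_mem' := ⟨0, 0, by simp, Or.inl W.pc_zero.symm⟩
  mul_mem' := by
    rintro _ _ ⟨i, j, ⟨c, hc⟩, hh⟩ ⟨k, l, ⟨d, hd⟩, hh'⟩
    rcases hh with rfl | rfl <;> rcases hh' with rfl | rfl
    · exact ⟨_, _, ⟨c + d, by linarith⟩, Or.inl (W.pc_mul_pc i j k l)⟩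
    · exact ⟨_, _, ⟨c + d, by linarith⟩, Or.inr (W.pc_mul_pz i j k l)⟩
    · exact ⟨_, _, ⟨c - d, by linarith⟩, Or.inr (W.pz_mul_pc i j k l)⟩
    · exact ⟨_, _, ⟨c - d, by linarith⟩, Or.inl (W.pz_mul_pz i j k l)⟩
  inv_mem' := by
    rintro _ ⟨i, j, ⟨c, hc⟩, rfl | rfl⟩
    · exact ⟨_, _, ⟨-c, by linarith⟩, Or.inl (W.pc_inv _ _)⟩
    · exact ⟨_, _, ⟨c, by linarith⟩, Or.inr (W.pz_inv _ _)⟩

theorem V_le : W.V ≤ (S : Subgroup G) := by
  rintro _ ⟨k, l, -, rfl | rfl⟩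
  exacts [W.pc_mem k l, W.pz_mem k l]

theorem pc_mem_V {k l : ℤ} (hd : (2 : ℤ) * 2 ^ m ∣ k - l) : W.pc k l ∈ W.V := ⟨k, l, hd, Or.inl rfl⟩

theorem pz_mem_V {k l : ℤ} (hd : (2 : ℤ) * 2 ^ m ∣ k - l) : W.pz k l ∈ W.V := ⟨k, l, hd, Or.inr rfl⟩

theorem Zs_le_V : W.Zs ≤ W.V := fun g hg => by
  obtain ⟨t, rfl⟩ := W.mem_Zs.1 hg
  exact W.pc_mem_V (by simp)

theorem ca_mem_V : W.ca ∈ W.V := W.pc_mem_V (by simp)

theorem z0_mem_V : W.z0 ∈ W.V := W.pz_mem_V (by simp)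

theorem p0_mem_V : W.p0 ∈ W.V := W.pz_mem_V ⟨1, by ring⟩

theorem Q0_sup_Zs : W.Q0 ⊔ W.Zs = W.V := by
  refine le_antisymm (sup_le ?_ W.Zs_le_V) ?_
  · rintro _ ⟨k, l, ⟨e, rfl⟩, ⟨rfl, c, hc⟩ | ⟨rfl, c, hc⟩⟩
    · exact W.pc_mem_V ⟨e - 2 * c, by linarith⟩
    · exact W.pz_mem_V ⟨e - 2 * c - 1, by linarith⟩
  · rintro _ ⟨k, l, ⟨e, he⟩, rfl | rfl⟩
    · rw [show W.pc k l = W.pc (l + 2 ^ m * e) (l + 2 ^ m * e) * W.pc (2 ^ m * e) (-(2 ^ m * e)) by
        rw [pc_mul_pc]; exact W.pc_congr (by linarith) (by ring)]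
      exact Subgroup.mul_mem _ (Subgroup.mem_sup_right (W.pc_mem_Zs _))
        (Subgroup.mem_sup_left ⟨_, _, dvd_mul_right _ e, Or.inl ⟨rfl, by simp⟩⟩)
    · rw [show W.pz k l = W.pc (l + 2 ^ m * e - 2 ^ m) (l + 2 ^ m * e - 2 ^ m) *
          W.pz (2 ^ m * e + 2 ^ m) (2 ^ m - 2 ^ m * e) by
        rw [pc_mul_pz]; exact W.pz_congr (by linarith) (by ring)]
      exact Subgroup.mul_mem _ (Subgroup.mem_sup_right (W.pc_mem_Zs _))
        (Subgroup.mem_sup_left ⟨_, _, ⟨e + 1, by ring⟩, Or.inr ⟨rfl, 0, by ring⟩⟩)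

theorem V_inf_centralizer {g : G} (hg : g ∈ W.V) (hc : g ∈ Subgroup.centralizer (W.V : Set G)) :
    g ∈ W.Zs := by
  obtain ⟨k, l, -, rfl | rfl⟩ := hg
  · have e := Subgroup.mem_centralizer_iff.mp hc _ W.z0_mem_V
    rw [z0, pz_mul_pc, pc_mul_pz, pz_eq_pz] at e
    rw [pc_mem_Zs_iff]
    obtain ⟨⟨c, hc'⟩, -⟩ := e
    exact ⟨-c, by linarith⟩
  · exact absurd ((W.mem_U_of_commute_pc (W.pz_mem k l) (k := 2 * 2 ^ m) (l := 0) (fun hd => by
      rw [sub_zero] at hd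
      have := Int.le_of_dvd (by positivity) hd
      have := q_pos m; omega) (Subgroup.mem_centralizer_iff.mp hc _ W.ca_mem_V).symm))
      (W.pz_not_mem_U k l)

theorem Zs_le_centralizer_V : W.Zs ≤ Subgroup.centralizer (W.V : Set G) := fun _ hz =>
  Subgroup.mem_centralizer_iff.mpr fun v hv =>
    (Subgroup.mem_centralizer_iff.mp (W.S_le_centralizer_Zs (W.V_le hv)) _ hz).symm

theorem Zs_isCyclic : IsCyclic W.Zs := by
  refine isCyclic_iff_exists_zpowers_eq_top.mpr ⟨⟨W.pc 1 1, W.pc_mem_Zs 1⟩, ?_⟩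
  rw [eq_top_iff]
  rintro ⟨g, hg⟩ -
  obtain ⟨t, rfl⟩ := W.mem_Zs.1 hg
  have key : ∀ k : ℤ, W.pc 1 1 ^ k = W.pc k k := by
    intro k
    induction k with
    | zero => simp [pc_zero]
    | succ k ih => rw [zpow_add_one, ih, pc_mul_pc]
    | pred k ih => rw [zpow_sub_one, ih, pc_inv, pc_mul_pc]; exact W.pc_congr (by ring) (by ring)
  exact ⟨t, Subtype.ext (by simp [key])⟩

theorem card_Zs : Nat.card W.Zs ∣ 2 ^ (2 * (m + 2)) := W.card_U ▸ Subgroup.card_dvd_of_le W.Zs_le_U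

/-- `N(Z(S)) = C(Z(S))`. -/
theorem normalizer_Zs_le :
    Subgroup.normalizer (W.Zs : Set G) ≤ Subgroup.centralizer (W.Zs : Set G) := by
  haveI : Fact (Nat.Prime 2) := ⟨Nat.prime_two⟩
  haveI := W.Zs_isCyclic
  rw [← Subgroup.relIndex_eq_one]
  have hS := W.S_le_centralizer_Zs
  have hodd : ¬ 2 ∣ (Subgroup.centralizer (W.Zs : Set G)).relIndex (Subgroup.normalizer (W.Zs : Set G)) :=
    fun hd => S.not_dvd_index ((hd.trans (Subgroup.relIndex_dvd_index_of_le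
      (Subgroup.centralizer_le_normalizer _))).trans (Subgroup.index_dvd_of_le hS))
  have h2 : (Subgroup.centralizer (W.Zs : Set G)).relIndex (Subgroup.normalizer (W.Zs : Set G)) ∣
      Nat.card (MulAut W.Zs) := by
    rw [Subgroup.relIndex, ← Subgroup.normalizerMonoidHom_ker, Subgroup.index_ker]
    exact Subgroup.card_subgroup_dvd_card _
  obtain ⟨k, -, hk⟩ := (Nat.dvd_prime_pow Nat.prime_two).mp W.card_Zs
  rw [IsCyclic.card_mulAut, hk] at h2
  rcases k with _ | k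
  · simpa using h2
  rw [Nat.totient_prime_pow Nat.prime_two k.succ_pos, show (2 - 1 : ℕ) = 1 from rfl, mul_one] at h2
  obtain ⟨i, -, hi⟩ := (Nat.dvd_prime_pow Nat.prime_two).mp h2
  rcases i with _ | i
  · simpa using hi
  · exact absurd ⟨2 ^ i, by rw [hi, pow_succ']⟩ hodd

theorem normalizer_V_le :
    Subgroup.normalizer (W.V : Set G) ≤ Subgroup.centralizer (W.Zs : Set G) := by
  refine le_trans (fun n hn => ?_) W.normalizer_Zs_le
  refine Transfer.mem_normalizer_of_conj_mem fun t ht => ?_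
  refine W.V_inf_centralizer ((Subgroup.mem_normalizer_iff.mp hn t).mp (W.Zs_le_V ht)) ?_
  rw [Subgroup.mem_centralizer_iff]
  intro v hv
  have hv' : n⁻¹ * v * n ∈ W.V := (Subgroup.mem_normalizer_iff''.mp hn v).mp hv
  have e := Subgroup.mem_centralizer_iff.mp (W.Zs_le_centralizer_V ht) _ hv'
  calc v * (n * t * n⁻¹) = n * ((n⁻¹ * v * n) * t) * n⁻¹ := by group
    _ = n * (t * (n⁻¹ * v * n)) * n⁻¹ := by rw [e]
    _ = _ := by group

theorem conj_cc_of_mem {n : G} (hn : n ∈ Subgroup.normalizer (W.V : Set G)) : n * W.cc * n⁻¹ = W.cc := by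
  rw [← Subgroup.mem_centralizer_iff.mp (W.normalizer_V_le hn) _ W.cc_mem_Zs, mul_inv_cancel_right]

/-- The pair `{t, t * cc}`. -/
def pair (t : G) : Set G := {t, t * W.cc}

theorem mem_pair {s t : G} : s ∈ W.pair t ↔ s = t ∨ s = t * W.cc := Iff.rfl

theorem pair_mul_cc (t : G) : W.pair (t * W.cc) = W.pair t := by
  rw [pair, pair, mul_assoc, ← pow_two, W.cc_sq, mul_one, Set.pair_comm]

theorem pair_eq_of_mem {s t : G} (hst : s ∈ W.pair t) : W.pair s = W.pair t := by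
  rcases W.mem_pair.1 hst with rfl | rfl
  · rfl
  · exact W.pair_mul_cc t

theorem ca_mul_cc : W.ca * W.cc = W.cb := by
  rw [← ca_mul_cb, ← mul_assoc, ← pow_two, W.ca_sq, one_mul]

theorem z0_mul_cc : W.z0 * W.cc = W.pz (2 * 2 ^ m) (2 * 2 ^ m) := by
  rw [z0, cc, pz_mul_pc, zero_add]

theorem p0_mul_cc : W.p0 * W.cc = W.pz (3 * 2 ^ m) (2 ^ m) := by
  rw [p0, cc, pz_mul_pc]; exact W.pz_congr (by ring) (by ring)

/-- The involutions of `V` outside `Z(S)`. -/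
theorem involution_mem_V {t : G} (ht : t ∈ W.V) (ho : orderOf t = 2) (hz : t ∉ W.Zs) :
    t ∈ W.pair W.ca ∨ t ∈ W.pair W.z0 ∨ t ∈ W.pair W.p0 := by
  rcases W.involution_cases (W.V_le ht) ho with rfl | rfl | rfl | ⟨d, rfl⟩
  · exact Or.inl (Or.inl rfl)
  · exact Or.inl (Or.inr W.ca_mul_cc.symm)
  · exact absurd W.cc_mem_Zs hz
  · obtain ⟨k, l, ⟨c, hc⟩, e | e⟩ := ht
    · exact absurd e.symm (W.pc_ne_pz _ _ _ _)
    obtain ⟨⟨u, hu⟩, ⟨v, hv⟩⟩ := W.pz_eq_pz.1 e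
    have hd : d = 2 ^ m * (c + 2 * u - 2 * v) := by linarith
    obtain ⟨f, hf | hf | hf | hf⟩ := four_cases (c + 2 * u - 2 * v)
    all_goals rw [hf] at hd; subst hd
    · exact Or.inr (Or.inl (Or.inl (W.pz_eq_pz.2 ⟨⟨f, by ring⟩, ⟨-f, by ring⟩⟩)))
    · exact Or.inr (Or.inr (Or.inl (W.pz_eq_pz.2 ⟨⟨f, by ring⟩, ⟨-f, by ring⟩⟩)))
    · refine Or.inr (Or.inl (Or.inr ?_))
      rw [Set.mem_singleton_iff, W.z0_mul_cc, pz_eq_pz]; exact ⟨⟨f, by ring⟩, ⟨-f - 1, by ring⟩⟩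
    · refine Or.inr (Or.inr (Or.inr ?_))
      rw [Set.mem_singleton_iff, W.p0_mul_cc, pz_eq_pz]; exact ⟨⟨f, by ring⟩, ⟨-f - 1, by ring⟩⟩

theorem ca_not_mem_pair_z0 : W.ca ∉ W.pair W.z0 := fun h => by
  rcases W.mem_pair.1 h with e | e
  · exact W.pc_ne_pz _ _ _ _ e
  · rw [z0_mul_cc] at e; exact W.pc_ne_pz _ _ _ _ e

theorem ca_not_mem_pair_p0 : W.ca ∉ W.pair W.p0 := fun h => by
  rcases W.mem_pair.1 h with e | e
  · exact W.pc_ne_pz _ _ _ _ e
  · rw [p0_mul_cc] at e; exact W.pc_ne_pz _ _ _ _ e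

theorem z0_not_mem_pair_p0 : W.z0 ∉ W.pair W.p0 := fun h => by
  rcases W.mem_pair.1 h with e | e
  · have h1 := (W.pz_eq_pz.1 e).1
    rw [show (0 : ℤ) - 2 ^ m = 2 ^ m * (-1) by ring] at h1
    have := four_dvd_of_mul h1; omega
  · rw [p0_mul_cc] at e
    have h1 := (W.pz_eq_pz.1 e).1
    rw [show (0 : ℤ) - 3 * 2 ^ m = 2 ^ m * (-3) by ring] at h1
    have := four_dvd_of_mul h1; omega

/-- The three pairs. -/
abbrev IsPair (P : Set G) : Prop := P = W.pair W.ca ∨ P = W.pair W.z0 ∨ P = W.pair W.p0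

theorem orderOf_p0 : orderOf W.p0 = 2 :=
  orderOf_eq_prime (by rw [p0, pz_sq, add_neg_cancel, pc_zero]) (W.pz_ne_one _ _)

theorem image_pair {n : G} (hn : n ∈ Subgroup.normalizer (W.V : Set G)) (t : G) :
    (fun g => n * g * n⁻¹) '' W.pair t = W.pair (n * t * n⁻¹) := by
  rw [pair, Set.image_pair, ← conj_mul, W.conj_cc_of_mem hn, pair]

theorem isPair_conj {n : G} (hn : n ∈ Subgroup.normalizer (W.V : Set G)) {P : Set G} (hP : W.IsPair P) :
    W.IsPair ((fun g => n * g * n⁻¹) '' P) := by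
  obtain ⟨t, htV, hto, htz, rfl⟩ : ∃ t, t ∈ W.V ∧ orderOf t = 2 ∧ t ∉ W.Zs ∧ P = W.pair t := by
    rcases hP with rfl | rfl | rfl
    · refine ⟨W.ca, W.ca_mem_V, W.orderOf_ca, fun hm => ?_, rfl⟩
      rw [ca, pc_mem_Zs_iff, sub_zero] at hm
      have := Int.le_of_dvd (by positivity) hm
      have := q_pos m; omega
    · exact ⟨W.z0, W.z0_mem_V, W.orderOf_z0, W.pz_not_mem_Zs 0 0, rfl⟩
    · exact ⟨W.p0, W.p0_mem_V, W.orderOf_p0, W.pz_not_mem_Zs _ _, rfl⟩
  rw [W.image_pair hn]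
  have hz' : n * t * n⁻¹ ∉ W.Zs := fun hm => htz (by
    have e := Subgroup.mem_centralizer_iff.mp (W.normalizer_V_le (Subgroup.inv_mem _ hn)) _ hm
    have : t = n * t * n⁻¹ := by
      calc t = n⁻¹ * (n * t * n⁻¹) * n := by group
        _ = n * t * n⁻¹ := by
          rw [← e, mul_assoc, inv_mul_cancel, mul_one]
    rwa [← this] at hm)
  rcases W.involution_mem_V ((Subgroup.mem_normalizer_iff.mp hn t).mp htV)
    (by rw [← MulAut.conj_apply, MulEquiv.orderOf_eq, hto]) hz' with h | h | h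
  exacts [Or.inl (W.pair_eq_of_mem h), Or.inr (Or.inl (W.pair_eq_of_mem h)),
    Or.inr (Or.inr (W.pair_eq_of_mem h))]

/-- The action of `N(V)` on the three pairs. -/
noncomputable def permV : Subgroup.normalizer (W.V : Set G) →* Equiv.Perm {P : Set G // W.IsPair P} where
  toFun n :=
    { toFun := fun P => ⟨(fun g => (n : G) * g * (n : G)⁻¹) '' P.1, W.isPair_conj n.2 P.2⟩
      invFun := fun P => ⟨(fun g => (n : G)⁻¹ * g * (n : G)⁻¹⁻¹) '' P.1,
        W.isPair_conj (Subgroup.inv_mem _ n.2) P.2⟩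
      left_inv := fun P => Subtype.ext (by simp [Set.image_image, mul_assoc])
      right_inv := fun P => Subtype.ext (by simp [Set.image_image, mul_assoc]) }
  map_one' := Equiv.ext fun P => Subtype.ext (by simp)
  map_mul' n n' := Equiv.ext fun P => Subtype.ext (by simp [Set.image_image, mul_assoc])

theorem permV_apply (n : Subgroup.normalizer (W.V : Set G)) (P : {P : Set G // W.IsPair P}) :
    (W.permV n P : Set G) = (fun g => (n : G) * g * (n : G)⁻¹) '' P.1 := rfl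

theorem mem_VC_of_fix {n : G} (hn : n ∈ Subgroup.normalizer (W.V : Set G))
    (ha : n * W.ca * n⁻¹ ∈ W.pair W.ca) (hz : n * W.z0 * n⁻¹ ∈ W.pair W.z0) :
    n ∈ W.V ⊔ Subgroup.centralizer (W.V : Set G) := by
  set V' := W.V ⊔ Subgroup.centralizer (W.V : Set G) with hV'
  have hN : V' ≤ Subgroup.normalizer (W.V : Set G) :=
    sup_le Subgroup.le_normalizer (Subgroup.centralizer_le_normalizer _)
  -- a correction in `V` fixing `ca`
  obtain ⟨v, hv, hva, hvz⟩ : ∃ v ∈ W.V, v * n * W.ca * (v * n)⁻¹ = W.ca ∧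
      v * n * W.z0 * (v * n)⁻¹ ∈ W.pair W.z0 := by
    rcases W.mem_pair.1 ha with e | e
    · exact ⟨1, W.V.one_mem, by rw [one_mul]; exact e, by rw [one_mul]; exact hz⟩
    · refine ⟨W.z0, W.z0_mem_V, ?_, ?_⟩
      · calc W.z0 * n * W.ca * (W.z0 * n)⁻¹ = W.z0 * (n * W.ca * n⁻¹) * W.z0⁻¹ := by group
          _ = W.ca := by rw [e, W.ca_mul_cc, W.conj_cb_z0]
      · rw [show W.z0 * n * W.z0 * (W.z0 * n)⁻¹ = W.z0 * (n * W.z0 * n⁻¹) * W.z0⁻¹ by group]
        rcases W.mem_pair.1 hz with e' | e'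
        · rw [e', mul_inv_cancel_right]; exact Or.inl rfl
        · rw [e', ← conj_mul, mul_inv_cancel_right,
            W.conj_cc_of_mem (Subgroup.le_normalizer W.z0_mem_V)]
          exact Or.inr rfl
  obtain ⟨w, hw, hwa, hwz⟩ : ∃ w ∈ W.V, w * n * W.ca * (w * n)⁻¹ = W.ca ∧
      w * n * W.z0 * (w * n)⁻¹ = W.z0 := by
    rcases W.mem_pair.1 hvz with e | e
    · exact ⟨v, hv, hva, e⟩
    · refine ⟨W.ca * v, W.V.mul_mem W.ca_mem_V hv, ?_, ?_⟩
      · calc W.ca * v * n * W.ca * (W.ca * v * n)⁻¹ = W.ca * (v * n * W.ca * (v * n)⁻¹) * W.ca⁻¹ := by group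
          _ = W.ca := by rw [hva, mul_inv_cancel_right]
      · calc W.ca * v * n * W.z0 * (W.ca * v * n)⁻¹ = W.ca * (v * n * W.z0 * (v * n)⁻¹) * W.ca⁻¹ := by group
          _ = W.z0 := by
            rw [e, z0_mul_cc, ca, conj_pz_by_pc, z0]
            exact W.pz_eq_pz.2 ⟨⟨1, by ring⟩, ⟨0, by ring⟩⟩
  have hwn : w * n ∈ Subgroup.normalizer (W.V : Set G) := mul_mem (Subgroup.le_normalizer hw) hn
  have hC : w * n ∈ Subgroup.centralizer (W.V : Set G) := by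
    rw [Subgroup.mem_centralizer_iff]
    intro t ht
    have hz' : ∀ s ∈ W.Zs, Commute (w * n) s := fun s hs =>
      (Subgroup.mem_centralizer_iff.mp (W.normalizer_V_le hwn) s hs).symm
    have hA : Commute (w * n) W.ca := mul_inv_eq_iff_eq_mul.mp hwa
    have hZ : Commute (w * n) W.z0 := mul_inv_eq_iff_eq_mul.mp hwz
    obtain ⟨k, l, ⟨e, he⟩, hkl⟩ := ht
    have hpc : Commute (w * n) (W.pc k l) := by
      rcases Int.even_or_odd' e with ⟨f, rfl | rfl⟩
      · exact hz' _ (W.pc_mem_Zs_iff.2 ⟨f, by linarith⟩)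
      · have : W.pc k l = W.pc l l * W.ca := by
          rw [ca, pc_mul_pc, pc_eq_pc]; exact ⟨⟨f, by linarith⟩, by simp⟩
        rw [this]
        exact (hz' _ (W.pc_mem_Zs l)).mul_right hA
    rcases hkl with rfl | rfl
    · exact hpc.eq.symm
    · rw [show W.pz k l = W.pc k l * W.z0 by rw [z0, pc_mul_pz, add_zero, add_zero]]
      exact (hpc.mul_right hZ).eq.symm
  have := Subgroup.mul_mem V' (Subgroup.mem_sup_left (W.V.inv_mem hw)) (Subgroup.mem_sup_right hC)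
  rwa [inv_mul_cancel_left] at this

theorem ker_permV : W.permV.ker =
    (W.V ⊔ Subgroup.centralizer (W.V : Set G)).subgroupOf (Subgroup.normalizer (W.V : Set G)) := by
  apply le_antisymm
  · intro n hn
    rw [MonoidHom.mem_ker] at hn
    have key : ∀ t, W.IsPair (W.pair t) → (n : G) * t * (n : G)⁻¹ ∈ W.pair t := fun t ht => by
      have h1 := congrArg Subtype.val (Equiv.congr_fun hn ⟨W.pair t, ht⟩)
      rw [permV_apply] at h1
      have h1' : (fun g => (n : G) * g * (n : G)⁻¹) '' W.pair t = W.pair t := h1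
      rw [← h1']
      exact ⟨t, Or.inl rfl, rfl⟩
    exact W.mem_VC_of_fix n.2 (key _ (Or.inl rfl)) (key _ (Or.inr (Or.inl rfl)))
  · rw [Subgroup.subgroupOf_sup Subgroup.le_normalizer (Subgroup.centralizer_le_normalizer _)]
    have key : ∀ (n : Subgroup.normalizer (W.V : Set G)),
        (∀ t ∈ W.V, (n : G) * t * (n : G)⁻¹ ∈ W.pair t) → n ∈ W.permV.ker := by
      intro n h
      rw [MonoidHom.mem_ker]
      refine Equiv.ext fun P => Subtype.ext ?_
      rw [permV_apply, Equiv.Perm.one_apply]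
      rcases P.2 with e | e | e <;> rw [e, W.image_pair n.2]
      exacts [W.pair_eq_of_mem (h _ W.ca_mem_V), W.pair_eq_of_mem (h _ W.z0_mem_V),
        W.pair_eq_of_mem (h _ W.p0_mem_V)]
    refine sup_le (fun n hn => key n fun t ht => ?_) (fun n hn => key n fun t ht => Or.inl ?_)
    · have hnV : (n : G) ∈ W.V := Subgroup.mem_subgroupOf.mp hn
      obtain ⟨i, j, ⟨c, hc⟩, hn | hn⟩ := hnV <;>
        obtain ⟨k, l, ⟨d, hd⟩, rfl | rfl⟩ := ht <;> rw [hn]
      · rw [conj_pc_by_pc]; exact Or.inl rfl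
      · rw [conj_pz_by_pc]
        rcases Int.even_or_odd' c with ⟨f, rfl | rfl⟩
        · exact Or.inl (W.pz_eq_pz.2 ⟨⟨f, by linarith⟩, ⟨-f, by linarith⟩⟩)
        · refine Or.inr ?_
          rw [cc, Set.mem_singleton_iff, pz_mul_pc, pz_eq_pz]
          exact ⟨⟨f, by linarith⟩, ⟨-f - 1, by linarith⟩⟩
      · rw [conj_pc_by_pz]
        rcases Int.even_or_odd' d with ⟨f, rfl | rfl⟩
        · exact Or.inl (W.pc_eq_pc.2 ⟨⟨-f, by linarith⟩, ⟨f, by linarith⟩⟩)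
        · refine Or.inr ?_
          rw [cc, Set.mem_singleton_iff, pc_mul_pc, pc_eq_pc]
          exact ⟨⟨-f - 1, by linarith⟩, ⟨f, by linarith⟩⟩
      · rw [conj_pz_by_pz]
        rcases Int.even_or_odd' (c - d) with ⟨f, hf | hf⟩
        · refine Or.inl (W.pz_eq_pz.2 ⟨⟨f, ?_⟩, ⟨-f, ?_⟩⟩)
          · linear_combination hc - hd + 2 * (2 : ℤ) ^ m * hf
          · linear_combination -hc + hd - 2 * (2 : ℤ) ^ m * hf
        · refine Or.inr ?_
          rw [cc, Set.mem_singleton_iff, pz_mul_pc, pz_eq_pz]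
          refine ⟨⟨f, ?_⟩, ⟨-f - 1, ?_⟩⟩
          · linear_combination hc - hd + 2 * (2 : ℤ) ^ m * hf
          · linear_combination -hc + hd - 2 * (2 : ℤ) ^ m * hf
    · have hnC : (n : G) ∈ Subgroup.centralizer (W.V : Set G) := Subgroup.mem_subgroupOf.mp hn
      rw [← Subgroup.mem_centralizer_iff.mp hnC t ht, mul_inv_cancel_right]

theorem pair_ca_ne_z0 : W.pair W.ca ≠ W.pair W.z0 := fun e => W.ca_not_mem_pair_z0 (e ▸ Or.inl rfl)

theorem pair_ca_ne_p0 : W.pair W.ca ≠ W.pair W.p0 := fun e => W.ca_not_mem_pair_p0 (e ▸ Or.inl rfl)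

theorem pair_z0_ne_p0 : W.pair W.z0 ≠ W.pair W.p0 := fun e => W.z0_not_mem_pair_p0 (e ▸ Or.inl rfl)

theorem card_pairs : Nat.card {P : Set G // W.IsPair P} = 3 := by
  have e : {P : Set G | W.IsPair P} = {W.pair W.ca, W.pair W.z0, W.pair W.p0} := by
    ext P; simp [IsPair]
  show Nat.card {P : Set G | W.IsPair P} = 3
  rw [e, Nat.card_coe_set_eq,
    Set.ncard_insert_of_notMem (by simp [W.pair_ca_ne_z0, W.pair_ca_ne_p0]) (Set.toFinite _),
    Set.ncard_pair W.pair_z0_ne_p0]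

theorem relIndex_V_eq : (W.V ⊔ Subgroup.centralizer (W.V : Set G)).relIndex
    (Subgroup.normalizer (W.V : Set G)) = Nat.card W.permV.range := by
  rw [Subgroup.relIndex, ← ker_permV, Subgroup.index_ker]

/-- `r = x ^ q` normalises `V`. -/
theorem root_mem_normalizer_V : W.pc (2 ^ m) 0 ∈ Subgroup.normalizer (W.V : Set G) := by
  refine Transfer.mem_normalizer_of_conj_mem ?_
  rintro _ ⟨k, l, ⟨d, hd⟩, rfl | rfl⟩
  · rw [conj_pc_by_pc]; exact W.pc_mem_V ⟨d, hd⟩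
  · rw [conj_pz_by_pc]; exact W.pz_mem_V ⟨d + 1, by linarith⟩

theorem root_conj_z0 : W.pc (2 ^ m) 0 * W.z0 * (W.pc (2 ^ m) 0)⁻¹ = W.p0 := W.pz_eq_conj_z0 _

theorem root_not_mem_VC : W.pc (2 ^ m) 0 ∉ W.V ⊔ Subgroup.centralizer (W.V : Set G) := by
  intro hm
  have h1 : (⟨_, W.root_mem_normalizer_V⟩ : Subgroup.normalizer (W.V : Set G)) ∈ W.permV.ker := by
    rw [ker_permV]; exact hm
  have h2 := congrArg Subtype.val (Equiv.congr_fun h1 ⟨W.pair W.z0, Or.inr (Or.inl rfl)⟩)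
  rw [permV_apply, W.image_pair W.root_mem_normalizer_V, W.root_conj_z0] at h2
  exact W.pair_z0_ne_p0 h2.symm

theorem relIndex_V :
    (W.V ⊔ Subgroup.centralizer (W.V : Set G)).relIndex (Subgroup.normalizer (W.V : Set G)) = 2 ∨
      (W.V ⊔ Subgroup.centralizer (W.V : Set G)).relIndex (Subgroup.normalizer (W.V : Set G)) = 6 := by
  haveI : Fact (Nat.Prime 2) := ⟨Nat.prime_two⟩
  refine two_or_six (W.relIndex_V_eq ▸ (card_range_three _ W.card_pairs).1) ?_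
  rw [relIndex_V_eq]
  let r' : Subgroup.normalizer (W.V : Set G) := ⟨_, W.root_mem_normalizer_V⟩
  have h1 : orderOf (W.permV r') = 2 := by
    refine orderOf_eq_prime ?_ fun e => W.root_not_mem_VC ?_
    · have : r' ^ 2 ∈ W.permV.ker := by
        rw [ker_permV, Subgroup.mem_subgroupOf, Subgroup.coe_pow]
        show W.pc (2 ^ m) 0 ^ 2 ∈ _
        rw [pc_sq, mul_zero]
        exact Subgroup.mem_sup_left (W.pc_mem_V (by simp))
      rw [← map_pow]
      exact this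
    · have : r' ∈ W.permV.ker := e
      rwa [ker_permV] at this
  exact h1.symm.dvd.trans (Subgroup.orderOf_dvd_natCard _ ⟨r', rfl⟩)

/-- With automizer 6 some `N`-th power cycles the three pairs. -/
theorem V_cycle (h6 : (W.V ⊔ Subgroup.centralizer (W.V : Set G)).relIndex
      (Subgroup.normalizer (W.V : Set G)) = 6) {N : ℕ} (hN : ¬ 3 ∣ N) :
    ∃ n ∈ Subgroup.normalizer (W.V : Set G), n ^ N * W.ca * (n ^ N)⁻¹ ∈ W.pair W.z0 ∧
      n ^ N * W.z0 * (n ^ N)⁻¹ ∈ W.pair W.p0 ∧ n ^ N * W.p0 * (n ^ N)⁻¹ ∈ W.pair W.ca := by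
  rw [relIndex_V_eq] at h6
  obtain ⟨g, h1, h2, h3⟩ := exists_cycle_pow W.permV ((card_range_three _ W.card_pairs).2 h6)
    (a := ⟨W.pair W.ca, Or.inl rfl⟩) (b := ⟨W.pair W.z0, Or.inr (Or.inl rfl)⟩)
    (c := ⟨W.pair W.p0, Or.inr (Or.inr rfl)⟩) (fun e => W.pair_ca_ne_z0 (Subtype.ext_iff.mp e))
    (fun e => W.pair_ca_ne_p0 (Subtype.ext_iff.mp e)) (fun e => W.pair_z0_ne_p0 (Subtype.ext_iff.mp e))
    (fun P => by
      rcases P.2 with e | e | e
      exacts [Or.inl (Subtype.ext e), Or.inr (Or.inl (Subtype.ext e)), Or.inr (Or.inr (Subtype.ext e))]) hN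
  have key : ∀ (s t : G) (hs : W.IsPair (W.pair s)) (ht : W.IsPair (W.pair t)),
      W.permV (g ^ N) ⟨W.pair s, hs⟩ = ⟨W.pair t, ht⟩ →
        (g : G) ^ N * s * ((g : G) ^ N)⁻¹ ∈ W.pair t := by
    intro s t hs ht e
    have e' := congrArg Subtype.val e
    rw [permV_apply, W.image_pair (g ^ N).2] at e'
    rw [← Subgroup.coe_pow, ← (show W.pair (((g ^ N : _) : G) * s * ((g ^ N : _) : G)⁻¹) = W.pair t from e')]
    exact Or.inl rfl
  exact ⟨g, g.2, key _ _ _ _ h1, key _ _ _ _ h2, key _ _ _ _ h3⟩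

theorem isConj_ca_z0_of_six (h6 : (W.V ⊔ Subgroup.centralizer (W.V : Set G)).relIndex
    (Subgroup.normalizer (W.V : Set G)) = 6) : IsConj W.ca W.z0 := by
  obtain ⟨n, -, h1, -⟩ := W.V_cycle h6 (N := 1) (by norm_num)
  rcases W.mem_pair.1 h1 with e | e
  · exact isConj_iff.mpr ⟨_, e⟩
  · refine (show IsConj W.ca (W.z0 * W.cc) from isConj_iff.mpr ⟨_, e⟩).trans ?_
    rw [z0_mul_cc, show W.pz (2 * 2 ^ m) (2 * 2 ^ m) = W.pz (2 * 2 ^ m) (-(2 * 2 ^ m)) from
      W.pz_eq_pz.2 ⟨by simp, ⟨1, by ring⟩⟩]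
    exact (W.isConj_z0_pz _).symm

/-- With automizer 2 every element of `N(V)` keeps `ca` in its pair. -/
theorem conj_ca_mem_of_two (h2 : (W.V ⊔ Subgroup.centralizer (W.V : Set G)).relIndex
      (Subgroup.normalizer (W.V : Set G)) = 2) {n : G} (hn : n ∈ Subgroup.normalizer (W.V : Set G)) :
    n * W.ca * n⁻¹ ∈ W.pair W.ca := by
  have hVC : ∀ v ∈ Subgroup.normalizer (W.V : Set G), v ∈ W.V ⊔ Subgroup.centralizer (W.V : Set G) →
      v * W.ca * v⁻¹ ∈ W.pair W.ca := by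
    intro v hv hv'
    have h1 : (⟨v, hv⟩ : Subgroup.normalizer (W.V : Set G)) ∈ W.permV.ker := by rw [ker_permV]; exact hv'
    have h3 := congrArg Subtype.val (Equiv.congr_fun h1 ⟨W.pair W.ca, Or.inl rfl⟩)
    rw [permV_apply] at h3
    have h3' : (fun g => v * g * v⁻¹) '' W.pair W.ca = W.pair W.ca := h3
    rw [← h3']
    exact ⟨W.ca, Or.inl rfl, rfl⟩
  by_cases hnV : n ∈ W.V ⊔ Subgroup.centralizer (W.V : Set G)
  · exact hVC n hn hnV
  have h1 : n * W.pc (2 ^ m) 0 ∈ W.V ⊔ Subgroup.centralizer (W.V : Set G) :=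
    (Subgroup.mul_mem_iff_of_index_two h2 (a := (⟨n, hn⟩ : Subgroup.normalizer (W.V : Set G)))
      (b := ⟨_, W.root_mem_normalizer_V⟩)).mpr (iff_of_false hnV W.root_not_mem_VC)
  have h3 := hVC _ (mul_mem hn W.root_mem_normalizer_V) h1
  have e : n * W.pc (2 ^ m) 0 * W.ca * (n * W.pc (2 ^ m) 0)⁻¹ = n * W.ca * n⁻¹ := by
    calc n * W.pc (2 ^ m) 0 * W.ca * (n * W.pc (2 ^ m) 0)⁻¹
        = n * (W.pc (2 ^ m) 0 * W.ca * (W.pc (2 ^ m) 0)⁻¹) * n⁻¹ := by group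
      _ = n * W.ca * n⁻¹ := by rw [ca, conj_pc_by_pc]
  rwa [e] at h3

end WRAmb

end Cfsg.Agent.WRFusion
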