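import Cfsg.Agent.Lib.TwoGroups.Wreathed
import Cfsg.Agent.Lib.Transfer.Fusion

/-!
# Wreathed Sylow 2-subgroups: coordinates in the ambient group

For `W : WRAmb S m` the elements of `S` are `W.pc i j = x^i y^j` and `W.pz i j = x^i y^j z`; all subgroups and
elements used in the fusion analysis (`U`, `Zs`, `V`, `Q0`, `ca`, `cb`, `cc`, `z0`, `p0`) live in `G`.
Here `2 ^ n = 4 * 2 ^ m`.
-/

set_option autoImplicit false
set_option linter.style.haveILetI false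
set_option linter.unusedSectionVars false

namespace Cfsg.Agent.WRFusion

open TwoGroups

/-- A choice of generators of a wreathed Sylow 2-subgroup. -/
structure WRAmb {G : Type*} [Group G] (S : Sylow 2 G) (m : ℕ) where
  gx : ↥(S : Subgroup G)
  gy : ↥(S : Subgroup G)
  gz : ↥(S : Subgroup G)
  gen : WRGen gx gy gz (m + 2)

theorem two_pow_eq (m : ℕ) : (2 : ℤ) ^ (m + 2) = 4 * 2 ^ m := by ring

theorem four_cases (e : ℤ) : ∃ f, e = 4 * f ∨ e = 4 * f + 1 ∨ e = 4 * f + 2 ∨ e = 4 * f + 3 :=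
  ⟨e / 4, by omega⟩

theorem q_pos (m : ℕ) : (0 : ℤ) < 2 ^ m := by positivity

/-- `4q ∣ q e` reduces to `4 ∣ e`. -/
theorem four_dvd_of_mul {m : ℕ} {e : ℤ} (hd : (4 : ℤ) * 2 ^ m ∣ 2 ^ m * e) : 4 ∣ e := by
  rw [mul_comm (4 : ℤ)] at hd
  exact (mul_dvd_mul_iff_left (q_pos m).ne').1 hd

namespace WRAmb

variable {G : Type*} [Group G] [Finite G] {S : Sylow 2 G} {m : ℕ} (W : WRAmb S m)

/-- `x ^ i * y ^ j` in `G`. -/
def pc (i j : ℤ) : G := ((WRGen.pr W.gx W.gy i j : ↥(S : Subgroup G)) : G)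

/-- `x ^ i * y ^ j * z` in `G`. -/
def pz (i j : ℤ) : G := ((WRGen.pr W.gx W.gy i j * W.gz : ↥(S : Subgroup G)) : G)

theorem pc_mem (i j : ℤ) : W.pc i j ∈ (S : Subgroup G) := SetLike.coe_mem _

theorem pz_mem (i j : ℤ) : W.pz i j ∈ (S : Subgroup G) := SetLike.coe_mem _

theorem cases {g : G} (hg : g ∈ (S : Subgroup G)) : ∃ i j, g = W.pc i j ∨ g = W.pz i j := by
  obtain ⟨i, j, hij | hij⟩ := W.gen.exists_form ⟨g, hg⟩
  · exact ⟨i, j, Or.inl (congrArg Subtype.val hij)⟩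
  · exact ⟨i, j, Or.inr (congrArg Subtype.val hij)⟩

theorem pc_mul_pc (i j k l : ℤ) : W.pc i j * W.pc k l = W.pc (i + k) (j + l) :=
  congrArg Subtype.val (W.gen.pr_mul i j k l)

theorem pc_mul_pz (i j k l : ℤ) : W.pc i j * W.pz k l = W.pz (i + k) (j + l) :=
  congrArg Subtype.val (W.gen.pr_mul_prz i j k l)

theorem pz_mul_pc (i j k l : ℤ) : W.pz i j * W.pc k l = W.pz (i + l) (j + k) :=
  congrArg Subtype.val (W.gen.prz_mul_pr i j k l)

theorem pz_mul_pz (i j k l : ℤ) : W.pz i j * W.pz k l = W.pc (i + l) (j + k) :=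
  congrArg Subtype.val (W.gen.prz_mul_prz i j k l)

theorem pc_inv (i j : ℤ) : (W.pc i j)⁻¹ = W.pc (-i) (-j) :=
  congrArg Subtype.val (W.gen.pr_inv i j)

theorem pz_inv (i j : ℤ) : (W.pz i j)⁻¹ = W.pz (-j) (-i) :=
  congrArg Subtype.val (W.gen.prz_inv i j)

theorem pc_zero : W.pc 0 0 = 1 := by simp [pc, WRGen.pr]

theorem conj_pc_by_pc (i j k l : ℤ) : W.pc i j * W.pc k l * (W.pc i j)⁻¹ = W.pc k l :=
  congrArg Subtype.val (W.gen.conj_pr_by_pr i j k l)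

theorem conj_pc_by_pz (i j k l : ℤ) : W.pz i j * W.pc k l * (W.pz i j)⁻¹ = W.pc l k :=
  congrArg Subtype.val (W.gen.conj_pr_by_prz i j k l)

theorem conj_pz_by_pc (i j k l : ℤ) :
    W.pc i j * W.pz k l * (W.pc i j)⁻¹ = W.pz (i + k - j) (j + l - i) :=
  congrArg Subtype.val (W.gen.conj_prz_by_pr i j k l)

theorem conj_pz_by_pz (i j k l : ℤ) :
    W.pz i j * W.pz k l * (W.pz i j)⁻¹ = W.pz (i + l - j) (j + k - i) :=
  congrArg Subtype.val (W.gen.conj_prz_by_prz i j k l)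

theorem pc_eq_pc {i j k l : ℤ} :
    W.pc i j = W.pc k l ↔ (4 : ℤ) * 2 ^ m ∣ i - k ∧ (4 : ℤ) * 2 ^ m ∣ j - l := by
  rw [← two_pow_eq, pc, pc, Subtype.coe_inj, W.gen.pr_eq_iff]

theorem pz_eq_pz {i j k l : ℤ} :
    W.pz i j = W.pz k l ↔ (4 : ℤ) * 2 ^ m ∣ i - k ∧ (4 : ℤ) * 2 ^ m ∣ j - l := by
  rw [← two_pow_eq, pz, pz, Subtype.coe_inj, W.gen.prz_eq_iff]

theorem pc_congr {i j k l : ℤ} (e₁ : i = k) (e₂ : j = l) : W.pc i j = W.pc k l := by rw [e₁, e₂]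

theorem pz_congr {i j k l : ℤ} (e₁ : i = k) (e₂ : j = l) : W.pz i j = W.pz k l := by rw [e₁, e₂]

theorem pc_ne_pz (i j k l : ℤ) : W.pc i j ≠ W.pz k l := fun e =>
  W.gen.prz_ne k l i j (Subtype.ext e.symm)

theorem pc_eq_one {i j : ℤ} :
    W.pc i j = 1 ↔ (4 : ℤ) * 2 ^ m ∣ i ∧ (4 : ℤ) * 2 ^ m ∣ j := by
  rw [← W.pc_zero, W.pc_eq_pc, sub_zero, sub_zero]

theorem pz_ne_one (i j : ℤ) : W.pz i j ≠ 1 := fun e => W.pc_ne_pz 0 0 i j (by rw [e, W.pc_zero])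

theorem pc_sq (i j : ℤ) : W.pc i j ^ 2 = W.pc (2 * i) (2 * j) := by
  rw [pow_two, pc_mul_pc, two_mul, two_mul]

theorem pz_sq (i j : ℤ) : W.pz i j ^ 2 = W.pc (i + j) (i + j) := by
  rw [pow_two, pz_mul_pz, add_comm j i]

theorem pc_pow (i j : ℤ) (k : ℕ) : W.pc i j ^ k = W.pc (k * i) (k * j) := by
  induction k with
  | zero => simp [pc_zero]
  | succ k ih => rw [pow_succ, ih, pc_mul_pc]; exact W.pc_congr (by push_cast; ring) (by push_cast; ring)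

/-! ### Distinguished elements -/

/-- The involution `x ^ (2q)`. -/
def ca : G := W.pc (2 * 2 ^ m) 0

/-- The involution `y ^ (2q)`. -/
def cb : G := W.pc 0 (2 * 2 ^ m)

/-- The central involution. -/
def cc : G := W.pc (2 * 2 ^ m) (2 * 2 ^ m)

/-- The involution `z`. -/
def z0 : G := W.pz 0 0

/-- The involution `x ^ q y ^ (-q) z`. -/
def p0 : G := W.pz (2 ^ m) (-(2 ^ m))

theorem ca_ne_one : W.ca ≠ 1 := fun e => by
  have := Int.le_of_dvd (by positivity) (W.pc_eq_one.1 e).1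
  have := q_pos m; omega

theorem cb_ne_one : W.cb ≠ 1 := fun e => by
  have := Int.le_of_dvd (by positivity) (W.pc_eq_one.1 e).2
  have := q_pos m; omega

theorem cc_ne_one : W.cc ≠ 1 := fun e => by
  have := Int.le_of_dvd (by positivity) (W.pc_eq_one.1 e).1
  have := q_pos m; omega

theorem ca_ne_cb : W.ca ≠ W.cb := fun e => by
  have h1 := (W.pc_eq_pc.1 e).1
  rw [sub_zero] at h1
  have := Int.le_of_dvd (by positivity) h1
  have := q_pos m; omega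

theorem ca_ne_cc : W.ca ≠ W.cc := fun e => by
  have h1 := (W.pc_eq_pc.1 e).2
  rw [zero_sub, dvd_neg] at h1
  have := Int.le_of_dvd (by positivity) h1
  have := q_pos m; omega

theorem cb_ne_cc : W.cb ≠ W.cc := fun e => by
  have h1 := (W.pc_eq_pc.1 e).1
  rw [zero_sub, dvd_neg] at h1
  have := Int.le_of_dvd (by positivity) h1
  have := q_pos m; omega

theorem ca_sq : W.ca ^ 2 = 1 := by
  rw [ca, pc_sq, pc_eq_one]; exact ⟨⟨1, by ring⟩, by simp⟩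

theorem cb_sq : W.cb ^ 2 = 1 := by
  rw [cb, pc_sq, pc_eq_one]; exact ⟨by simp, ⟨1, by ring⟩⟩

theorem cc_sq : W.cc ^ 2 = 1 := by
  rw [cc, pc_sq, pc_eq_one]; exact ⟨⟨1, by ring⟩, ⟨1, by ring⟩⟩

theorem z0_sq : W.z0 ^ 2 = 1 := by rw [z0, pz_sq, add_zero, pc_zero]

theorem orderOf_ca : orderOf W.ca = 2 := orderOf_eq_prime W.ca_sq W.ca_ne_one

theorem orderOf_cb : orderOf W.cb = 2 := orderOf_eq_prime W.cb_sq W.cb_ne_one

theorem orderOf_cc : orderOf W.cc = 2 := orderOf_eq_prime W.cc_sq W.cc_ne_one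

theorem orderOf_z0 : orderOf W.z0 = 2 := orderOf_eq_prime W.z0_sq (W.pz_ne_one 0 0)

theorem conj_ca_z0 : W.z0 * W.ca * W.z0⁻¹ = W.cb := W.conj_pc_by_pz _ _ _ _

theorem conj_cb_z0 : W.z0 * W.cb * W.z0⁻¹ = W.ca := W.conj_pc_by_pz _ _ _ _

theorem isConj_ca_cb : IsConj W.ca W.cb := isConj_iff.mpr ⟨_, W.conj_ca_z0⟩

theorem ca_mul_cb : W.ca * W.cb = W.cc := by
  rw [ca, cb, cc, pc_mul_pc, add_zero, zero_add]

/-- The involutions of `S`. -/
theorem involution_cases {t : G} (ht : t ∈ (S : Subgroup G)) (ho : orderOf t = 2) :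
    t = W.ca ∨ t = W.cb ∨ t = W.cc ∨ ∃ d, t = W.pz d (-d) := by
  have h2 : t ^ 2 = 1 := by rw [← ho, pow_orderOf_eq_one]
  have h1 : t ≠ 1 := fun e => by rw [e, orderOf_one] at ho; omega
  obtain ⟨i, j, rfl | rfl⟩ := W.cases ht
  · rw [pc_sq, pc_eq_one] at h2
    obtain ⟨⟨c, hc⟩, ⟨d, hd⟩⟩ := h2
    have hc' : i = 2 * 2 ^ m * c := by linarith
    have hd' : j = 2 * 2 ^ m * d := by linarith
    subst hc' hd'
    rcases Int.even_or_odd' c with ⟨c, rfl | rfl⟩ <;> rcases Int.even_or_odd' d with ⟨d, rfl | rfl⟩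
    · exact absurd (W.pc_eq_one.2 ⟨⟨c, by ring⟩, ⟨d, by ring⟩⟩) h1
    · exact Or.inr (Or.inl (W.pc_eq_pc.2 ⟨⟨c, by ring⟩, ⟨d, by ring⟩⟩))
    · exact Or.inl (W.pc_eq_pc.2 ⟨⟨c, by ring⟩, ⟨d, by ring⟩⟩)
    · exact Or.inr (Or.inr (Or.inl (W.pc_eq_pc.2 ⟨⟨c, by ring⟩, ⟨d, by ring⟩⟩)))
  · rw [pz_sq, pc_eq_one] at h2
    obtain ⟨⟨c, hc⟩, -⟩ := h2
    exact Or.inr (Or.inr (Or.inr ⟨i, W.pz_eq_pz.2 ⟨by simp, ⟨c, by linarith⟩⟩⟩))

theorem pz_eq_conj_z0 (d : ℤ) : W.pc d 0 * W.z0 * (W.pc d 0)⁻¹ = W.pz d (-d) := by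
  rw [z0, conj_pz_by_pc]; exact W.pz_congr (by ring) (by ring)

theorem isConj_z0_pz (d : ℤ) : IsConj W.z0 (W.pz d (-d)) :=
  isConj_iff.mpr ⟨_, W.pz_eq_conj_z0 d⟩

theorem exists_conj_mem_sylow {u : G} (hu : orderOf u = 2) :
    ∃ t ∈ (S : Subgroup G), IsConj u t ∧ orderOf t = 2 := by
  haveI : Fact (Nat.Prime 2) := ⟨Nat.prime_two⟩
  obtain ⟨P, hP⟩ := (IsPGroup.of_card (p := 2) (n := 1) (G := Subgroup.zpowers u)
    (by rw [Nat.card_zpowers, hu, pow_one])).exists_le_sylow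
  obtain ⟨g, hg⟩ := MulAction.exists_smul_eq G P S
  refine ⟨g * u * g⁻¹, ?_, isConj_iff.mpr ⟨g, rfl⟩, by rw [← MulAut.conj_apply, MulEquiv.orderOf_eq, hu]⟩
  rw [← hg, Sylow.coe_subgroup_smul]
  exact Subgroup.smul_mem_pointwise_smul u (MulAut.conj g) _ (hP (Subgroup.mem_zpowers u))

/-- Every involution of `G` is conjugate to `ca`, `cc` or `z0`. -/
theorem isConj_involution (W : WRAmb S m) {u : G} (hu : orderOf u = 2) :
    IsConj u W.ca ∨ IsConj u W.cc ∨ IsConj u W.z0 := by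
  obtain ⟨t, ht, hut, hto⟩ := exists_conj_mem_sylow (S := S) hu
  rcases W.involution_cases ht hto with rfl | rfl | rfl | ⟨d, rfl⟩
  · exact Or.inl hut
  · exact Or.inl (hut.trans W.isConj_ca_cb.symm)
  · exact Or.inr (Or.inl hut)
  · exact Or.inr (Or.inr (hut.trans (W.isConj_z0_pz d).symm))

/-! ### Subgroups -/

/-- The abelian subgroup `⟨x, y⟩`. -/
noncomputable def U : Subgroup G where
  carrier := {g | ∃ i j, g = W.pc i j}
  one_mem' := ⟨0, 0, W.pc_zero.symm⟩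
  mul_mem' := by
    rintro _ _ ⟨i, j, rfl⟩ ⟨k, l, rfl⟩
    exact ⟨_, _, W.pc_mul_pc i j k l⟩
  inv_mem' := by
    rintro _ ⟨i, j, rfl⟩
    exact ⟨_, _, W.pc_inv i j⟩

theorem mem_U {g : G} : g ∈ W.U ↔ ∃ i j, g = W.pc i j := Iff.rfl

theorem pc_mem_U (i j : ℤ) : W.pc i j ∈ W.U := ⟨i, j, rfl⟩

theorem pz_not_mem_U (i j : ℤ) : W.pz i j ∉ W.U := fun ⟨k, l, e⟩ => W.pc_ne_pz k l i j e.symm

theorem U_le : W.U ≤ (S : Subgroup G) := fun _ ⟨i, j, e⟩ => e ▸ W.pc_mem i j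

theorem U_comm {a b : G} (ha : a ∈ W.U) (hb : b ∈ W.U) : a * b = b * a := by
  obtain ⟨i, j, rfl⟩ := ha
  obtain ⟨k, l, rfl⟩ := hb
  rw [pc_mul_pc, pc_mul_pc]
  exact W.pc_congr (add_comm _ _) (add_comm _ _)

theorem sq_mem_U {g : G} (hg : g ∈ (S : Subgroup G)) : g ^ 2 ∈ W.U := by
  obtain ⟨i, j, rfl | rfl⟩ := W.cases hg
  · rw [pc_sq]; exact W.pc_mem_U _ _
  · rw [pz_sq]; exact W.pc_mem_U _ _

theorem involution_mem_U {t : G} (ht : t ∈ W.U) (ho : orderOf t = 2) :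
    t = W.ca ∨ t = W.cb ∨ t = W.cc := by
  rcases W.involution_cases (W.U_le ht) ho with h | h | h | ⟨d, rfl⟩
  · exact Or.inl h
  · exact Or.inr (Or.inl h)
  · exact Or.inr (Or.inr h)
  · exact absurd ht (W.pz_not_mem_U _ _)

theorem mem_U_of_commute_pc {g : G} (hg : g ∈ (S : Subgroup G)) {k l : ℤ}
    (hkl : ¬ (4 : ℤ) * 2 ^ m ∣ k - l) (hc : g * W.pc k l = W.pc k l * g) : g ∈ W.U := by
  obtain ⟨i, j, rfl | rfl⟩ := W.cases hg
  · exact W.pc_mem_U i j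
  · rw [pz_mul_pc, pc_mul_pz, pz_eq_pz] at hc
    exact absurd (by have := hc.1; rw [show i + l - (k + i) = -(k - l) by ring, dvd_neg] at this; exact this) hkl

theorem not_dvd_one_q : ¬ (4 : ℤ) * 2 ^ m ∣ 1 := fun hd => by
  have := Int.le_of_dvd (by norm_num) hd
  have := q_pos m; omega

theorem mem_U_of_centralizes {g : G} (hg : g ∈ (S : Subgroup G))
    (hc : g ∈ Subgroup.centralizer (W.U : Set G)) : g ∈ W.U :=
  W.mem_U_of_commute_pc hg (k := 1) (l := 0) (by simpa using not_dvd_one_q (m := m))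
    (Subgroup.mem_centralizer_iff.mp hc _ (W.pc_mem_U 1 0)).symm

theorem U_le_centralizer : W.U ≤ Subgroup.centralizer (W.U : Set G) := fun _ hu =>
  Subgroup.mem_centralizer_iff.mpr fun _ hv => W.U_comm hv hu

theorem card_U : Nat.card W.U = 2 ^ (2 * (m + 2)) := by
  have e : W.U = (W.gen.base 1).map (S : Subgroup G).subtype := by
    ext g
    constructor
    · rintro ⟨i, j, rfl⟩
      exact ⟨_, ⟨i, j, rfl, by simp⟩, rfl⟩
    · rintro ⟨_, ⟨i, j, rfl, -⟩, rfl⟩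
      exact ⟨i, j, rfl⟩
  rw [e, Subgroup.card_map_of_injective (Subgroup.subtype_injective _), two_mul, pow_add,
    ← W.gen.card_base (one_dvd _), mul_one]

theorem card_S (W : WRAmb S m) : Nat.card (S : Subgroup G) = 2 * 2 ^ (2 * (m + 2)) := by
  rw [W.gen.card]; ring

/-- An abelian subgroup of `S` of the order of `U` is `U`. -/
theorem eq_U_of_abelian {B : Subgroup G} (hB : B ≤ (S : Subgroup G))
    (hc : ∀ a ∈ B, ∀ b ∈ B, a * b = b * a) (hcard : Nat.card B = 2 ^ (2 * (m + 2))) : B = W.U := by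
  refine Subgroup.eq_of_le_of_card_ge (fun g hg => ?_) (by rw [hcard, W.card_U])
  by_contra hgU
  have hsmall : ∀ v ∈ B, v ∈ W.U → ∃ t : Fin (2 ^ (m + 2)), v = W.pc t.val t.val := by
    intro v hv hvU
    obtain ⟨k, l, rfl⟩ := hvU
    have hkl : (4 : ℤ) * 2 ^ m ∣ k - l := by
      by_contra hkl
      exact hgU (W.mem_U_of_commute_pc (hB hg) hkl (hc g hg _ hv))
    have hN : (0 : ℤ) < 4 * 2 ^ m := by positivity
    have h1 := Int.emod_nonneg k hN.ne'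
    have h2 := Int.emod_lt_of_pos k hN
    refine ⟨⟨(k % (4 * 2 ^ m)).toNat, ?_⟩, ?_⟩
    · zify
      rw [Int.toNat_of_nonneg h1, two_pow_eq]
      exact h2
    · rw [pc_eq_pc]
      simp only [Int.toNat_of_nonneg h1]
      refine ⟨⟨k / (4 * 2 ^ m), by rw [Int.emod_def]; ring⟩, ?_⟩
      obtain ⟨c, hc'⟩ := hkl
      exact ⟨k / (4 * 2 ^ m) - c, by rw [Int.emod_def]; linarith⟩
  let f : Fin (2 ^ (m + 2)) ⊕ Fin (2 ^ (m + 2)) → G := fun p =>
    match p with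
    | Sum.inl t => W.pc t.val t.val
    | Sum.inr t => W.pc t.val t.val * g
  have hsub : (B : Set G) ⊆ Set.range f := by
    intro v hv
    by_cases hvU : v ∈ W.U
    · obtain ⟨t, ht⟩ := hsmall v hv hvU
      exact ⟨Sum.inl t, ht.symm⟩
    · have h1 : v * g⁻¹ ∈ W.U := by
        obtain ⟨i, j, rfl | rfl⟩ := W.cases (hB hg)
        · exact absurd (W.pc_mem_U i j) hgU
        obtain ⟨k, l, rfl | rfl⟩ := W.cases (hB hv)
        · exact absurd (W.pc_mem_U k l) hvU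
        rw [pz_inv, pz_mul_pz]
        exact W.pc_mem_U _ _
      obtain ⟨t, ht⟩ := hsmall _ (B.mul_mem hv (B.inv_mem hg)) h1
      exact ⟨Sum.inr t, by show W.pc t.val t.val * g = v; rw [← ht, inv_mul_cancel_right]⟩
  have h3 : Nat.card B ≤ Nat.card (Set.range f) := Nat.card_mono (Set.toFinite _) hsub
  have h4 := h3.trans (Finite.card_range_le f)
  rw [hcard, Nat.card_sum, Nat.card_fin, two_mul (m + 2), pow_add] at h4
  have h5 : 4 ≤ 2 ^ (m + 2) := by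
    calc 4 = 2 ^ 2 := by norm_num
      _ ≤ _ := Nat.pow_le_pow_right (by norm_num) (by omega)
  nlinarith

/-- `U` is weakly closed in `S`. -/
theorem U_conj_eq {g : G} (hg : ∀ u ∈ W.U, g * u * g⁻¹ ∈ (S : Subgroup G)) :
    W.U.map (MulAut.conj g).toMonoidHom = W.U := by
  refine W.eq_U_of_abelian ?_ ?_ ?_
  · rintro _ ⟨u, hu, rfl⟩; exact hg u hu
  · rintro _ ⟨u, hu, rfl⟩ _ ⟨v, hv, rfl⟩
    rw [← map_mul, ← map_mul, W.U_comm hu hv]
  · rw [Subgroup.card_map_of_injective (MulAut.conj g).injective, W.card_U]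

theorem U_weaklyClosed : Cfsg.IsWeaklyClosed W.U (S : Subgroup G) :=
  ⟨W.U_le, fun _ hg => W.U_conj_eq fun _ hu => hg ⟨_, hu, rfl⟩⟩

/-- Burnside: fusion inside `U` takes place in `N(U)`. -/
theorem burnside {u : G} (hu : u ∈ W.U) {g : G} (hg : g * u * g⁻¹ ∈ W.U) :
    ∃ n ∈ Subgroup.normalizer (W.U : Set G), n * u * n⁻¹ = g * u * g⁻¹ := by
  haveI : Fact (Nat.Prime 2) := ⟨Nat.prime_two⟩
  obtain ⟨n, hn, e⟩ := Transfer.exists_normalizer_conj_eq_of_weaklyClosed S W.U_weaklyClosed {u} g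
    (Set.singleton_subset_iff.mpr (W.U_le_centralizer hu))
    (fun a ha => by rw [Set.mem_singleton_iff.mp ha]; exact W.U_le_centralizer hg)
  exact ⟨n, hn, e u rfl⟩

theorem S_le_normalizer_U : (S : Subgroup G) ≤ Subgroup.normalizer (W.U : Set G) := by
  intro s hs
  refine Transfer.mem_normalizer_of_conj_mem fun u hu => ?_
  obtain ⟨k, l, rfl⟩ := hu
  obtain ⟨i, j, rfl | rfl⟩ := W.cases hs
  · exact ⟨k, l, W.conj_pc_by_pc i j k l⟩
  · exact ⟨l, k, W.conj_pc_by_pz i j k l⟩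

/-- The centre of `S` in `G`. -/
abbrev Zs (_W : WRAmb S m) : Subgroup G :=
  (Subgroup.center ↥(S : Subgroup G)).map (S : Subgroup G).subtype

theorem mem_Zs {g : G} : g ∈ W.Zs ↔ ∃ t, g = W.pc t t := by
  constructor
  · rintro ⟨s, hs, rfl⟩
    obtain ⟨i, j, rfl | rfl⟩ := W.gen.exists_form s
    · rw [SetLike.mem_coe, W.gen.pr_mem_center_iff, two_pow_eq] at hs
      refine ⟨i, W.pc_eq_pc.2 ⟨by simp, ?_⟩⟩
      rw [← neg_sub, dvd_neg]
      exact hs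
    · exact absurd hs (W.gen.prz_not_mem_center i j)
  · rintro ⟨t, rfl⟩
    exact ⟨_, (W.gen.pr_mem_center_iff t t).2 (by simp), rfl⟩

theorem pc_mem_Zs (t : ℤ) : W.pc t t ∈ W.Zs := W.mem_Zs.2 ⟨t, rfl⟩

theorem pc_mem_Zs_iff {i j : ℤ} : W.pc i j ∈ W.Zs ↔ (4 : ℤ) * 2 ^ m ∣ i - j := by
  rw [W.mem_Zs]
  constructor
  · rintro ⟨t, e⟩
    obtain ⟨h1, h2⟩ := W.pc_eq_pc.1 e
    rw [show i - j = (i - t) - (j - t) by ring]
    exact dvd_sub h1 h2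
  · intro hd
    exact ⟨i, W.pc_eq_pc.2 ⟨by simp, by rw [← neg_sub, dvd_neg]; exact hd⟩⟩

theorem pz_not_mem_Zs (i j : ℤ) : W.pz i j ∉ W.Zs := fun hm => by
  obtain ⟨t, e⟩ := W.mem_Zs.1 hm
  exact W.pc_ne_pz t t i j e.symm

theorem Zs_le_U : W.Zs ≤ W.U := fun g hg => by
  obtain ⟨t, rfl⟩ := W.mem_Zs.1 hg
  exact W.pc_mem_U t t

theorem cc_mem_Zs : W.cc ∈ W.Zs := W.pc_mem_Zs _

theorem ca_mem_U : W.ca ∈ W.U := W.pc_mem_U _ _

theorem cb_mem_U : W.cb ∈ W.U := W.pc_mem_U _ _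

theorem cc_mem_U : W.cc ∈ W.U := W.pc_mem_U _ _

theorem S_le_centralizer_Zs (W : WRAmb S m) :
    (S : Subgroup G) ≤ Subgroup.centralizer (W.Zs : Set G) := fun s hs => by
  rw [Subgroup.mem_centralizer_iff]
  rintro _ ⟨c, hc, rfl⟩
  exact congrArg Subtype.val (Subgroup.mem_center_iff.mp hc ⟨s, hs⟩).symm

theorem S_le_centralizer_cc : (S : Subgroup G) ≤ Subgroup.centralizer ({W.cc} : Set G) := fun _ hs =>
  Subgroup.mem_centralizer_singleton_iff.mpr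
    (Subgroup.mem_centralizer_iff.mp (W.S_le_centralizer_Zs hs) _ W.cc_mem_Zs).symm

/-- An involution that is a square in `S` lies in `U`. -/
theorem mem_U_of_sq {g : G} (hg : g ∈ (S : Subgroup G)) (k : ℕ) : g ^ (2 * k) ∈ W.U := by
  rw [pow_mul]
  exact pow_mem (W.sq_mem_U hg) k

end WRAmb

/-- A `2`-subgroup of `D` can be conjugated into a maximal `2`-subgroup `T` of `D` inside `D`. -/
theorem exists_conj_le_max {G : Type*} [Group G] [Finite G] {D T P : Subgroup G} (hT : IsPGroup 2 T)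
    (hTD : T ≤ D) (hmax : ∀ R : Subgroup G, IsPGroup 2 R → T ≤ R → R ≤ D → R ≤ T)
    (hP : IsPGroup 2 P) (hPD : P ≤ D) : ∃ c ∈ D, ∀ p ∈ P, c * p * c⁻¹ ∈ T := by
  haveI : Fact (Nat.Prime 2) := ⟨Nat.prime_two⟩
  obtain ⟨R₁, hR₁⟩ := (hP.comap_subtype (K := D)).exists_le_sylow
  obtain ⟨R₂, hR₂⟩ := (hT.comap_subtype (K := D)).exists_le_sylow
  obtain ⟨c, hc⟩ := MulAction.exists_smul_eq D R₁ R₂
  refine ⟨c, c.2, fun p hp => ?_⟩
  have h1 : c * ⟨p, hPD hp⟩ * c⁻¹ ∈ ((c • R₁ : Sylow 2 D) : Subgroup D) :=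
    ⟨⟨p, hPD hp⟩, hR₁ hp, rfl⟩
  rw [hc] at h1
  exact hmax ((R₂ : Subgroup D).map D.subtype) (R₂.2.map _)
    (fun t ht => ⟨⟨t, hTD ht⟩, hR₂ ht, rfl⟩) (Subgroup.map_subtype_le _) ⟨_, h1, rfl⟩

/-- A `2`-subgroup of `D ⊇ S` is conjugate into `S` inside `D`. -/
theorem exists_conj_le_sylow {G : Type*} [Group G] [Finite G] {S : Sylow 2 G} {D P : Subgroup G}
    (hS : (S : Subgroup G) ≤ D) (hP : IsPGroup 2 P) (hPD : P ≤ D) :
    ∃ c ∈ D, ∀ p ∈ P, c * p * c⁻¹ ∈ (S : Subgroup G) :=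
  exists_conj_le_max S.2 hS (fun _ hR hSR _ => (S.3 hR hSR).le) hP hPD

end Cfsg.Agent.WRFusion
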