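import Cfsg.Agent.Lib.WRFusion.Adapted
import Cfsg.Agent.Lib.Transfer.Burnside
import Cfsg.Agent.Lib.Transfer.Residual

/-!
# Wreathed Sylow 2-subgroups without fusion: normal 2-complement
-/

set_option autoImplicit false
set_option linter.style.haveILetI false
set_option linter.unusedSectionVars false

namespace Cfsg.Agent.WRFusion

namespace WRAmb

variable {G : Type*} [Group G] [Finite G] {S : Sylow 2 G} {m : ℕ} (W : WRAmb S m)

theorem hasNormalPComplement_of_two (h2 : (Subgroup.centralizer (W.U : Set G)).relIndex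
      (Subgroup.normalizer (W.U : Set G)) = 2) (hza : ¬ IsConj W.z0 W.ca) (hzc : ¬ IsConj W.z0 W.cc) :
    Cfsg.HasNormalPComplement 2 G := by
  haveI : Fact (Nat.Prime 2) := ⟨Nat.prime_two⟩
  obtain ⟨M, hMn, hM, hzM, hUM⟩ := W.exists_index_two hza hzc
  haveI := hMn
  obtain ⟨R, hR⟩ := SylowCount.exists_sylow_inf S M
  have hRmem : ∀ g : M, g ∈ (R : Subgroup M) ↔ (g : G) ∈ W.U := by
    intro g
    rw [hR, Subgroup.mem_subgroupOf]
    refine ⟨fun hg => ?_, fun hg => W.U_le hg⟩
    obtain ⟨i, j, e | e⟩ := W.cases hg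
    · rw [e]; exact W.pc_mem_U i j
    · refine absurd ?_ hzM
      have h1 := M.mul_mem (M.inv_mem (hUM (W.pc_mem_U i j))) g.2
      rwa [e, W.pc_inv, W.pc_mul_pz, neg_add_cancel, neg_add_cancel] at h1
  have hodd : ∀ g : G, Odd (orderOf g) → g ∈ M := by
    intro g hg
    obtain ⟨k, hk⟩ := hg
    rw [show g = (g ^ (k + 1)) ^ 2 by
      rw [← pow_mul, show (k + 1) * 2 = orderOf g + 1 by omega, pow_succ, pow_orderOf_eq_one, one_mul]]
    exact Subgroup.sq_mem_of_index_two hM _
  have hCU : ∀ g ∈ Subgroup.centralizer (W.U : Set G), g ∈ M := by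
    intro g hg
    obtain ⟨j, r, hr, he⟩ := Nat.exists_eq_two_pow_mul_odd (orderOf_pos g).ne'
    refine mem_of_coprime_pows (a := r) (b := 2 ^ j) ((Nat.coprime_two_right.mpr hr).pow_right j) ?_ ?_
    · have h2' : IsPGroup 2 (Subgroup.zpowers (g ^ r)) := IsPGroup.of_card (n := j) (by
        rw [Nat.card_zpowers, orderOf_pow_of_dvd hr.pos.ne' ⟨2 ^ j, by rw [he, mul_comm]⟩, he,
          Nat.mul_div_cancel _ hr.pos])
      have hsup : IsPGroup 2 (W.U ⊔ Subgroup.zpowers (g ^ r) : Subgroup G) :=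
        IsPGroup.to_sup_of_normal_left' (S.2.to_le W.U_le) h2'
          (Subgroup.zpowers_le.mpr (pow_mem (Subgroup.centralizer_le_normalizer _ hg) r))
      have hcent : ∀ w ∈ W.U, ∀ t ∈ W.U ⊔ Subgroup.zpowers (g ^ r), t * w = w * t := by
        intro w hw t ht
        have hle : W.U ⊔ Subgroup.zpowers (g ^ r) ≤ Subgroup.centralizer (W.U : Set G) :=
          sup_le W.U_le_centralizer (Subgroup.zpowers_le.mpr (pow_mem hg r))
        exact (Subgroup.mem_centralizer_iff.mp (hle ht) w hw).symm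
      exact hUM (W.U_max hsup le_sup_left
        (fun t ht => Subgroup.mem_centralizer_singleton_iff.mpr (hcent _ W.ca_mem_U t ht))
        (fun t ht => Subgroup.mem_centralizer_singleton_iff.mpr (hcent _ W.cc_mem_U t ht))
        (Subgroup.mem_sup_right (Subgroup.mem_zpowers _)))
    · refine hodd _ ?_
      rw [orderOf_pow_of_dvd (by positivity) ⟨r, he⟩, he, Nat.mul_div_cancel_left _ (by positivity)]
      exact hr
  have hle : Subgroup.normalizer ((R : Subgroup M) : Set M) ≤
      Subgroup.centralizer ((R : Subgroup M) : Set M) := by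
    intro x hx
    have hxN : (x : G) ∈ Subgroup.normalizer (W.U : Set G) := by
      refine Transfer.mem_normalizer_of_conj_mem fun u hu => ?_
      exact (hRmem (x * ⟨u, hUM hu⟩ * x⁻¹)).1
        ((Subgroup.mem_normalizer_iff.mp hx ⟨u, hUM hu⟩).mp ((hRmem ⟨u, hUM hu⟩).2 hu))
    have hxC : (x : G) ∈ Subgroup.centralizer (W.U : Set G) := by
      by_contra hxC
      have hzN := W.S_le_normalizer_U (W.pz_mem 0 0)
      have h1 : (x : G) * W.z0 ∈ Subgroup.centralizer (W.U : Set G) :=
        (Subgroup.mul_mem_iff_of_index_two h2 (a := (⟨_, hxN⟩ : Subgroup.normalizer (W.U : Set G)))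
          (b := ⟨W.z0, hzN⟩)).mpr (iff_of_false hxC W.z0_not_mem_centralizer_U)
      have h3 := M.mul_mem (M.inv_mem x.2) (hCU _ h1)
      rw [inv_mul_cancel_left] at h3
      exact hzM h3
    rw [Subgroup.mem_centralizer_iff]
    intro u hu
    exact Subtype.ext (Subgroup.mem_centralizer_iff.mp hxC _ ((hRmem u).1 hu))
  have key : Cfsg.HasNormalPComplement 2 M :=
    ⟨R, _, MonoidHom.normal_ker _, MonoidHom.ker_transferSylow_isComplement' R hle⟩
  rw [Transfer.hasNormalPComplement_iff] at key ⊢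
  have hres : Cfsg.pResidual 2 G ≤ (Cfsg.pResidual 2 M).map M.subtype := by
    show Transfer.residual 2 G ≤ _
    rw [Transfer.residual, Subgroup.closure_le]
    intro g hg
    exact ⟨⟨g, hodd g (Nat.coprime_two_right.mp hg)⟩,
      Transfer.mem_residual_of_coprime (by rw [← Subgroup.orderOf_coe]; exact hg), rfl⟩
  intro hd
  refine key ?_
  have := hd.trans (Subgroup.card_dvd_of_le hres)
  rwa [Subgroup.card_map_of_injective M.subtype_injective] at this

end WRAmb

end Cfsg.Agent.WRFusion
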