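import Cfsg.Agent.Lib.WRFusion.Automizer

/-!
# Wreathed Sylow 2-subgroups: fusion of `z` into `U`

If the automizer of `V = Q0 Z(S)` has order 2 then `z` is not conjugate to an involution of `U`.
-/

set_option autoImplicit false
set_option linter.style.haveILetI false
set_option linter.unusedSectionVars false

namespace Cfsg.Agent.WRFusion

namespace WRAmb

variable {G : Type*} [Group G] [Finite G] {S : Sylow 2 G} {m : ℕ} (W : WRAmb S m)

theorem orderOf_conj (g t : G) : orderOf (g * t * g⁻¹) = orderOf t := by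
  rw [← MulAut.conj_apply, MulEquiv.orderOf_eq]

theorem conj_comp (a b t : G) : a * b * t * (a * b)⁻¹ = a * (b * t * b⁻¹) * a⁻¹ := by group

theorem wq_sq : W.pc (2 ^ m) (2 ^ m) ^ 2 = W.cc := by rw [pc_sq]; rfl

theorem z0_conj_cc : W.z0 * W.cc * W.z0⁻¹ = W.cc := W.conj_pc_by_pz _ _ _ _

/-- If `z` is fused with an involution of `U` some element fixing `cc` maps it to `ca`. -/
theorem exists_conj_fix_cc (hz : IsConj W.z0 W.ca ∨ IsConj W.z0 W.cc) :
    ∃ g : G, g * W.cc * g⁻¹ = W.cc ∧ g * W.z0 * g⁻¹ = W.ca := by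
  have hwS : W.pc (2 ^ m) (2 ^ m) ∈ (S : Subgroup G) := W.pc_mem _ _
  have hzc : W.z0 ≠ W.cc := fun e => W.pc_ne_pz _ _ _ _ e.symm
  have hP : ∀ g : G, IsPGroup 2 (Subgroup.zpowers (g * W.pc (2 ^ m) (2 ^ m) * g⁻¹)) := fun g => by
    rw [← MulAut.conj_apply, ← MulEquiv.coe_toMonoidHom, ← MonoidHom.map_zpowers]
    exact (S.2.to_le (Subgroup.zpowers_le.mpr hwS)).map _
  by_cases h2 : IsConj W.z0 W.cc
  · obtain ⟨g₀, hg₀⟩ := isConj_iff.mp h2
    have hmem : g₀ * W.pc (2 ^ m) (2 ^ m) * g₀⁻¹ ∈ Subgroup.centralizer ({W.cc} : Set G) := by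
      rw [Subgroup.mem_centralizer_singleton_iff, ← hg₀, conj_mul, conj_mul, z0, pz_mul_pc, pc_mul_pz,
        W.pz_congr (zero_add ((2 : ℤ) ^ m)) (zero_add ((2 : ℤ) ^ m)),
        W.pz_congr (add_zero ((2 : ℤ) ^ m)) (add_zero ((2 : ℤ) ^ m))]
    obtain ⟨k, hk, hkP⟩ := exists_conj_le_sylow (S := S) W.S_le_centralizer_cc (hP g₀)
      (Subgroup.zpowers_le.mpr hmem)
    have hfixk : k * W.cc * k⁻¹ = W.cc :=
      mul_inv_eq_iff_eq_mul.mpr (Subgroup.mem_centralizer_singleton_iff.mp hk)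
    have heS := hkP _ (Subgroup.mem_zpowers _)
    set c' := k * g₀ * W.cc * (k * g₀)⁻¹ with hc'
    have hc'U : c' ∈ W.U := by
      have := W.sq_mem_U heS
      rwa [← conj_comp, conj_pow, W.wq_sq] at this
    have hz' : k * g₀ * W.z0 * (k * g₀)⁻¹ = W.cc := by rw [conj_comp, hg₀, hfixk]
    have hne : c' ≠ W.cc := fun e =>
      hzc.symm (mul_left_cancel (mul_right_cancel (e.trans hz'.symm)))
    obtain ⟨n, hn, hnc⟩ := W.burnside hc'U (g := (k * g₀)⁻¹) (by
      rw [hc', show (k * g₀)⁻¹ * (k * g₀ * W.cc * (k * g₀)⁻¹) * (k * g₀)⁻¹⁻¹ = W.cc by group]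
      exact W.cc_mem_U)
    rw [hc', show (k * g₀)⁻¹ * (k * g₀ * W.cc * (k * g₀)⁻¹) * (k * g₀)⁻¹⁻¹ = W.cc by group] at hnc
    set g := n * (k * g₀) with hg
    have hgc : g * W.cc * g⁻¹ = W.cc := by rw [hg, conj_comp]; exact hnc
    have hgz : g * W.z0 * g⁻¹ = n * W.cc * n⁻¹ := by rw [hg, conj_comp, hz']
    rcases W.involution_mem_U ((Subgroup.mem_normalizer_iff.mp hn _).mp W.cc_mem_U)
      (by rw [orderOf_conj, W.orderOf_cc]) with e | e | e
    · exact ⟨g, hgc, hgz.trans e⟩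
    · exact ⟨W.z0 * g, by rw [conj_comp, hgc, W.z0_conj_cc],
        by rw [conj_comp, hgz, e, W.conj_cb_z0]⟩
    · exact absurd (mul_left_cancel (mul_right_cancel (hnc.trans e.symm))) hne
  · have hza : IsConj W.z0 W.ca := hz.resolve_right h2
    have hac : ¬ IsConj W.ca W.cc := fun e => h2 (hza.trans e)
    obtain ⟨g₀, hg₀⟩ := isConj_iff.mp hza
    have hmem : g₀ * W.pc (2 ^ m) (2 ^ m) * g₀⁻¹ ∈ Subgroup.centralizer ({W.ca} : Set G) := by
      rw [Subgroup.mem_centralizer_singleton_iff, ← hg₀, conj_mul, conj_mul, z0, pz_mul_pc, pc_mul_pz,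
        W.pz_congr (zero_add ((2 : ℤ) ^ m)) (zero_add ((2 : ℤ) ^ m)),
        W.pz_congr (add_zero ((2 : ℤ) ^ m)) (add_zero ((2 : ℤ) ^ m))]
    have hUC : W.U ≤ Subgroup.centralizer ({W.ca} : Set G) := fun u hu =>
      Subgroup.mem_centralizer_singleton_iff.mpr (W.U_comm hu W.ca_mem_U)
    have hmax : ∀ R : Subgroup G, IsPGroup 2 R → W.U ≤ R →
        R ≤ Subgroup.centralizer ({W.ca} : Set G) → R ≤ W.U := by
      intro R hR hUR hRC
      obtain ⟨k, -, hk⟩ := exists_conj_le_sylow (S := S) le_top hR le_top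
      have hkU := W.U_conj_eq (g := k) fun u hu => hk u (hUR hu)
      have hka : k * W.ca * k⁻¹ ∈ W.U := by rw [← hkU]; exact ⟨_, W.ca_mem_U, rfl⟩
      intro r hr
      have hrc : k * r * k⁻¹ * (k * W.ca * k⁻¹) = k * W.ca * k⁻¹ * (k * r * k⁻¹) := by
        rw [conj_mul, conj_mul, Subgroup.mem_centralizer_singleton_iff.mp (hRC hr)]
      have h1 : k * r * k⁻¹ ∈ W.U := by
        rcases W.involution_mem_U hka (by rw [orderOf_conj, W.orderOf_ca]) with e | e | e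
        · refine W.mem_U_of_commute_pc (hk r hr) (k := 2 * 2 ^ m) (l := 0) ?_ ?_
          · intro hd; rw [sub_zero] at hd
            have := Int.le_of_dvd (by positivity) hd
            have := q_pos m; omega
          · rw [e] at hrc; exact hrc
        · refine W.mem_U_of_commute_pc (hk r hr) (k := 0) (l := 2 * 2 ^ m) ?_ ?_
          · intro hd; rw [zero_sub, dvd_neg] at hd
            have := Int.le_of_dvd (by positivity) hd
            have := q_pos m; omega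
          · rw [e] at hrc; exact hrc
        · exact absurd (isConj_iff.mpr ⟨k, e⟩) hac
      rw [← hkU] at h1
      obtain ⟨u, hu, e⟩ := h1
      have : r = u := (MulAut.conj k).injective e.symm
      rw [this]; exact hu
    obtain ⟨k, hk, hkP⟩ := exists_conj_le_max (S.2.to_le W.U_le) hUC hmax (hP g₀)
      (Subgroup.zpowers_le.mpr hmem)
    have heU := hkP _ (Subgroup.mem_zpowers _)
    have hc'U : k * g₀ * W.cc * (k * g₀)⁻¹ ∈ W.U := by
      rw [← W.wq_sq, ← conj_pow, conj_comp]; exact pow_mem heU 2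
    refine ⟨k * g₀, ?_, by rw [conj_comp, hg₀,
      mul_inv_eq_iff_eq_mul.mpr (Subgroup.mem_centralizer_singleton_iff.mp hk)]⟩
    rcases W.involution_mem_U hc'U (by rw [orderOf_conj, W.orderOf_cc]) with e | e | e
    · exact absurd (isConj_iff.mpr ⟨_, e⟩ : IsConj W.cc W.ca).symm hac
    · exact absurd ((isConj_iff.mpr ⟨_, e⟩ : IsConj W.cc W.cb).trans W.isConj_ca_cb.symm).symm hac
    · exact e

/-- Such an element can be chosen centralising `Z(S)`. -/
theorem exists_conj_centralizing (hz : IsConj W.z0 W.ca ∨ IsConj W.z0 W.cc) :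
    ∃ g ∈ Subgroup.centralizer (W.Zs : Set G), g * W.z0 * g⁻¹ = W.ca := by
  obtain ⟨g, hgc, hgz⟩ := W.exists_conj_fix_cc hz
  set D := Subgroup.centralizer ({W.ca} : Set G) ⊓ Subgroup.centralizer ({W.cc} : Set G) with hD
  set P := (Subgroup.zpowers (W.pc 1 1)).map (MulAut.conj g).toMonoidHom with hP
  have hPp : IsPGroup 2 P := (S.2.to_le (Subgroup.zpowers_le.mpr (W.pc_mem 1 1))).map _
  have hPD : P ≤ D := by
    rw [hP, MonoidHom.map_zpowers, Subgroup.zpowers_le]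
    show g * W.pc 1 1 * g⁻¹ ∈ D
    refine Subgroup.mem_inf.mpr ⟨?_, ?_⟩ <;> rw [Subgroup.mem_centralizer_singleton_iff]
    · rw [← hgz, conj_mul, conj_mul, z0, pz_mul_pc, pc_mul_pz]
      simp
    · conv_lhs => rw [← hgc]
      conv_rhs => rw [← hgc]
      rw [conj_mul, conj_mul, cc, pc_mul_pc, pc_mul_pc, W.pc_congr (add_comm _ _) (add_comm _ _)]
  obtain ⟨k, hk, hkP⟩ := exists_conj_le_max (D := D) (S.2.to_le W.U_le)
    (le_inf (fun u hu => Subgroup.mem_centralizer_singleton_iff.mpr (W.U_comm hu W.ca_mem_U))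
      (fun u hu => Subgroup.mem_centralizer_singleton_iff.mpr (W.U_comm hu W.cc_mem_U)))
    (fun R hR hUR hRD => W.U_max hR hUR (hRD.trans inf_le_left) (hRD.trans inf_le_right)) hPp hPD
  have hka : k * W.ca * k⁻¹ = W.ca :=
    mul_inv_eq_iff_eq_mul.mpr (Subgroup.mem_centralizer_singleton_iff.mp hk.1)
  have hkc : k * W.cc * k⁻¹ = W.cc :=
    mul_inv_eq_iff_eq_mul.mpr (Subgroup.mem_centralizer_singleton_iff.mp hk.2)
  set g' := k * g with hg'
  have hz' : g' * W.z0 * g'⁻¹ = W.ca := by rw [hg', conj_comp, hgz, hka]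
  have hc' : g' * W.cc * g'⁻¹ = W.cc := by rw [hg', conj_comp, hgc, hkc]
  have huU : g' * W.pc 1 1 * g'⁻¹ ∈ W.U := by
    rw [hg', conj_comp]; exact hkP _ ⟨_, Subgroup.mem_zpowers _, rfl⟩
  obtain ⟨n, hn, hne⟩ := W.burnside (W.pc_mem_U 1 1) huU
  have hpow : W.pc 1 1 ^ (2 * 2 ^ m) = W.cc := by
    rw [pc_pow]; exact W.pc_congr (by push_cast; ring) (by push_cast; ring)
  have hnc : n * W.cc * n⁻¹ = W.cc := by
    conv_lhs => rw [← hpow]
    rw [← conj_pow, hne, conj_pow, hpow, hc']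
  have hkey : n * W.pc 1 1 * n⁻¹ = W.pc 1 1 := by
    have hzN := W.S_le_normalizer_U (W.pz_mem 0 0)
    have fixcase : ∀ v ∈ Subgroup.normalizer (W.U : Set G), v * W.ca * v⁻¹ = W.ca →
        v * W.cc * v⁻¹ = W.cc → v * W.pc 1 1 * v⁻¹ = W.pc 1 1 := by
      intro v hv ha hc
      have hb : v * W.cb * v⁻¹ = W.cb := by rw [← W.ca_mul_cc, ← conj_mul, ha, hc]
      rw [← Subgroup.mem_centralizer_iff.mp (W.mem_centralizer_U_of_fix hv ha hb) _ (W.pc_mem_U 1 1),
        mul_inv_cancel_right]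
    rcases W.involution_mem_U ((Subgroup.mem_normalizer_iff.mp hn _).mp W.ca_mem_U)
      (by rw [orderOf_conj, W.orderOf_ca]) with e | e | e
    · exact fixcase n hn e hnc
    · have h1 := fixcase (W.z0 * n) (mul_mem hzN hn) (by rw [conj_comp, e, W.conj_cb_z0])
        (by rw [conj_comp, hnc, W.z0_conj_cc])
      rw [conj_comp] at h1
      have h2 : W.z0 * W.pc 1 1 * W.z0⁻¹ = W.pc 1 1 := W.conj_pc_by_pz 0 0 1 1
      exact mul_left_cancel (mul_right_cancel (h1.trans h2.symm))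
    · exact absurd (mul_left_cancel (mul_right_cancel (e.trans hnc.symm))) W.ca_ne_cc
  refine ⟨g', ?_, hz'⟩
  rw [Subgroup.mem_centralizer_iff]
  intro t ht
  obtain ⟨j, rfl⟩ := W.mem_Zs.1 ht
  have hcom : Commute g' (W.pc 1 1) := mul_inv_eq_iff_eq_mul.mp (hne.symm.trans hkey)
  have hN : (4 : ℤ) * 2 ^ m ≠ 0 := by positivity
  have e : W.pc j j = W.pc 1 1 ^ (j % (4 * 2 ^ m)).toNat := by
    rw [pc_pow, mul_one, Int.toNat_of_nonneg (Int.emod_nonneg j hN), pc_eq_pc]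
    exact ⟨⟨j / (4 * 2 ^ m), by rw [Int.emod_def]; ring⟩, ⟨j / (4 * 2 ^ m), by rw [Int.emod_def]; ring⟩⟩
  rw [e]
  exact (hcom.pow_right _).eq.symm

theorem conj_mem_pair {v t : G} (hv : v ∈ W.V) (ht : W.IsPair (W.pair t)) : v * t * v⁻¹ ∈ W.pair t := by
  have h1 : (⟨v, Subgroup.le_normalizer hv⟩ : Subgroup.normalizer (W.V : Set G)) ∈ W.permV.ker := by
    rw [ker_permV]; exact Subgroup.mem_sup_left hv
  have h2 := congrArg Subtype.val (Equiv.congr_fun h1 ⟨W.pair t, ht⟩)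
  rw [permV_apply] at h2
  have h2' : (fun g => v * g * v⁻¹) '' W.pair t = W.pair t := h2
  rw [← h2']
  exact ⟨t, Or.inl rfl, rfl⟩

theorem card_mul_two_of_swap {G : Type*} [Group G] {H N : Subgroup G} (hHN : H ≤ N) {a : G} (ha : a ∈ N)
    (h : ∀ b ∈ N, Xor (b * a ∈ H) (b ∈ H)) : Nat.card N = Nat.card H * 2 := by
  have h2 : H.relIndex N = 2 := by
    rw [Subgroup.relIndex, Subgroup.index_eq_two_iff]
    exact ⟨⟨a, ha⟩, fun b => h b b.2⟩
  rw [← h2, ← Subgroup.relIndex_bot_left H, Subgroup.relIndex_mul_relIndex ⊥ H N bot_le hHN,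
    Subgroup.relIndex_bot_left]

/-- With automizer 2 on `V`, `z` is not fused with an involution of `U`. -/
theorem not_isConj_z0_of_two (h2 : (W.V ⊔ Subgroup.centralizer (W.V : Set G)).relIndex
      (Subgroup.normalizer (W.V : Set G)) = 2) : ¬ IsConj W.z0 W.ca ∧ ¬ IsConj W.z0 W.cc := by
  rw [← not_or]
  intro hz
  haveI : Fact (Nat.Prime 2) := ⟨Nat.prime_two⟩
  obtain ⟨g, hgC, hgz⟩ := W.exists_conj_centralizing hz
  set K := Subgroup.centralizer (W.Zs : Set G) ⊓ Subgroup.centralizer ({W.z0} : Set G) with hK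
  set N₁ := Subgroup.centralizer (W.Zs : Set G) ⊓ Subgroup.normalizer (W.pair W.z0) with hN₁
  have hcfix : ∀ v ∈ Subgroup.centralizer (W.Zs : Set G), v * W.cc * v⁻¹ = W.cc := fun v hv => by
    rw [← Subgroup.mem_centralizer_iff.mp hv _ W.cc_mem_Zs, mul_inv_cancel_right]
  have mkN : ∀ v ∈ Subgroup.centralizer (W.Zs : Set G), v * W.z0 * v⁻¹ ∈ W.pair W.z0 → v ∈ N₁ := by
    intro v hv hvz
    refine Subgroup.mem_inf.mpr ⟨hv, ?_⟩
    have e : (fun t => v * t * v⁻¹) '' W.pair W.z0 = W.pair W.z0 := by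
      rw [pair, Set.image_pair, ← conj_mul, hcfix v hv]
      exact W.pair_eq_of_mem hvz
    rw [Subgroup.mem_set_normalizer_iff]
    intro t
    constructor
    · intro ht; rw [← e]; exact ⟨t, ht, rfl⟩
    · intro ht
      rw [← e] at ht
      obtain ⟨s, hs, hst⟩ := ht
      rwa [← mul_left_cancel (mul_right_cancel hst)]
  have hKN : K ≤ N₁ := fun v hv => mkN v hv.1 (Or.inl
    (mul_inv_eq_iff_eq_mul.mpr (Subgroup.mem_centralizer_singleton_iff.mp hv.2)))
  have hVN : W.V ≤ N₁ := fun v hv => mkN v (W.S_le_centralizer_Zs (W.V_le hv))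
    (W.conj_mem_pair hv (Or.inr (Or.inl rfl)))
  have hmemz : ∀ v ∈ N₁, v * W.z0 * v⁻¹ ∈ W.pair W.z0 := fun v hv =>
    (Subgroup.mem_set_normalizer_iff.mp hv.2 W.z0).mp (Or.inl rfl)
  have hcaz : W.ca * W.z0 * W.ca⁻¹ = W.z0 * W.cc := by
    rw [z0_mul_cc, ca, z0, conj_pz_by_pc, pz_eq_pz]
    exact ⟨⟨0, by ring⟩, ⟨-1, by ring⟩⟩
  have hzne : W.z0 * W.cc ≠ W.z0 := fun e => W.cc_ne_one (mul_eq_left.mp e)
  have hKcard : Nat.card N₁ = Nat.card K * 2 := by
    refine card_mul_two_of_swap hKN (hVN W.ca_mem_V) fun v hv => ?_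
    have hvC := hv.1
    have iffK : ∀ w ∈ N₁, (w ∈ K ↔ w * W.z0 * w⁻¹ = W.z0) := fun w hw =>
      ⟨fun h => mul_inv_eq_iff_eq_mul.mpr (Subgroup.mem_centralizer_singleton_iff.mp h.2),
        fun h => ⟨hw.1, Subgroup.mem_centralizer_singleton_iff.mpr (mul_inv_eq_iff_eq_mul.mp h)⟩⟩
    have hva : v * W.ca * W.z0 * (v * W.ca)⁻¹ = v * W.z0 * v⁻¹ * W.cc := by
      rw [conj_comp, hcaz, ← conj_mul, hcfix v hvC]
    rcases W.mem_pair.1 (hmemz v hv) with e | e
    · refine Or.inr ⟨(iffK v hv).2 e, fun h => ?_⟩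
      have := (iffK _ (mul_mem hv (hVN W.ca_mem_V))).1 h
      rw [hva, e] at this
      exact hzne this
    · refine Or.inl ⟨(iffK _ (mul_mem hv (hVN W.ca_mem_V))).2 ?_, fun h => ?_⟩
      · rw [hva, e, mul_assoc, ← pow_two, W.cc_sq, mul_one]
      · exact hzne (e.symm.trans ((iffK v hv).1 h))
  have hdvd : 2 ^ (2 * (m + 2)) ∣ Nat.card K := by
    have hT : W.U.map (MulAut.conj g⁻¹).toMonoidHom ≤ K := by
      rintro _ ⟨u, hu, rfl⟩
      show g⁻¹ * u * g⁻¹⁻¹ ∈ K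
      rw [inv_inv]
      have huC := W.S_le_centralizer_Zs (W.U_le hu)
      refine Subgroup.mem_inf.mpr ⟨mul_mem (mul_mem (inv_mem hgC) huC) hgC, ?_⟩
      rw [Subgroup.mem_centralizer_singleton_iff]
      have h1 := W.U_comm hu W.ca_mem_U
      rw [← hgz] at h1
      calc g⁻¹ * u * g * W.z0 = g⁻¹ * (u * (g * W.z0 * g⁻¹)) * g := by group
        _ = _ := by rw [h1]; group
    have := Subgroup.card_dvd_of_le hT
    rwa [Subgroup.card_map_of_injective (MulAut.conj g⁻¹).injective, W.card_U] at this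
  obtain ⟨P, hP⟩ := ((S.2.to_le W.V_le).comap_subtype (K := N₁)).exists_le_sylow
  have hPcard : Nat.card (S : Subgroup G) ∣ Nat.card (P : Subgroup N₁) := by
    have h1 : Nat.card (S : Subgroup G) ∣ Nat.card (P : Subgroup N₁) * (P : Subgroup N₁).index := by
      rw [Subgroup.card_mul_index, hKcard, W.card_S, mul_comm 2]
      exact Nat.mul_dvd_mul_right hdvd 2
    refine Nat.Coprime.dvd_of_dvd_mul_right ?_ h1
    rw [W.card_S, ← pow_succ']
    exact ((Nat.Prime.coprime_iff_not_dvd Nat.prime_two).mpr P.not_dvd_index).pow_left _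
  set R := (P : Subgroup N₁).map N₁.subtype with hR
  have hRN : R ≤ N₁ := Subgroup.map_subtype_le _
  have hVR : W.V ≤ R := fun v hv => ⟨⟨v, hVN hv⟩, hP hv, rfl⟩
  obtain ⟨k, hk, hkR⟩ := exists_conj_le_sylow (S := S) W.S_le_centralizer_Zs (P.2.map _)
    (hRN.trans inf_le_left)
  have hReq : R.map (MulAut.conj k).toMonoidHom = (S : Subgroup G) := by
    refine Subgroup.eq_of_le_of_card_ge ?_ ?_
    · rintro _ ⟨r, hr, rfl⟩; exact hkR r hr
    · rw [Subgroup.card_map_of_injective (MulAut.conj k).injective,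
        Subgroup.card_map_of_injective N₁.subtype_injective]
      exact Nat.le_of_dvd Nat.card_pos hPcard
  have hkc := hcfix k hk
  set z' := k * W.z0 * k⁻¹ with hz'
  have hz'S : z' ∈ (S : Subgroup G) := hkR _ (hVR W.z0_mem_V)
  have hz'a : z' ∈ W.pair W.ca := by
    rcases W.involution_cases hz'S (by rw [hz', orderOf_conj, W.orderOf_z0]) with e | e | e | ⟨d, e⟩
    · exact Or.inl e
    · exact Or.inr (by rw [e, W.ca_mul_cc]; exact Set.mem_singleton _)
    · exact absurd (mul_left_cancel (mul_right_cancel (e.trans hkc.symm)))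
        (fun h : W.z0 = W.cc => W.pc_ne_pz _ _ _ _ h.symm)
    · exfalso
      obtain ⟨p, hp, hpx⟩ := (hReq.symm.le (W.pc_mem 1 0) : W.pc 1 0 ∈ R.map (MulAut.conj k).toMonoidHom)
      have hpx' : k * p * k⁻¹ = W.pc 1 0 := hpx
      have hd' : W.pc 1 0 * z' * (W.pc 1 0)⁻¹ = k * (p * W.z0 * p⁻¹) * k⁻¹ := by
        rw [hz', ← hpx']; group
      rcases W.mem_pair.1 (hmemz p (hRN hp)) with e' | e'
      · rw [e', ← hz', e, conj_pz_by_pc, pz_eq_pz, show (1 : ℤ) + d - 0 - d = 1 by ring] at hd'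
        exact not_dvd_one_q hd'.1
      · rw [e', show k * (W.z0 * W.cc) * k⁻¹ = k * W.z0 * k⁻¹ * (k * W.cc * k⁻¹) by group, ← hz', hkc, e, conj_pz_by_pc, cc, pz_mul_pc, pz_eq_pz,
          show (1 : ℤ) + d - 0 - (d + 2 * 2 ^ m) = 1 - 2 * 2 ^ m by ring] at hd'
        obtain ⟨c, hc⟩ := hd'.1
        have : (2 : ℤ) ∣ 1 := ⟨2 ^ m + 2 * 2 ^ m * c, by linarith⟩
        omega
  have heS : k * W.ca * k⁻¹ ∈ (S : Subgroup G) := hkR _ (hVR W.ca_mem_V)
  have hz'U : z' ∈ W.U := by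
    rcases W.mem_pair.1 hz'a with e | e
    · rw [e]; exact W.ca_mem_U
    · rw [e, W.ca_mul_cc]; exact W.cb_mem_U
  obtain ⟨d, hed⟩ : ∃ d, k * W.ca * k⁻¹ = W.pz d (-d) := by
    have hnU : k * W.ca * k⁻¹ ∉ W.U := fun hU => by
      have h1 := W.U_comm hU hz'U
      rw [hz', conj_mul, conj_mul, mul_right_cancel_iff, mul_left_cancel_iff] at h1
      have h3 : W.ca * W.z0 * W.ca⁻¹ = W.z0 := mul_inv_eq_iff_eq_mul.mpr h1
      exact hzne (hcaz.symm.trans h3)
    rcases W.involution_cases heS (by rw [orderOf_conj, W.orderOf_ca]) with e | e | e | h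
    · exact absurd (by rw [e]; exact W.ca_mem_U) hnU
    · exact absurd (by rw [e]; exact W.cb_mem_U) hnU
    · exact absurd (by rw [e]; exact W.cc_mem_U) hnU
    · exact h
  set n := W.pc (-d) 0 * k with hn
  have hnC : n ∈ Subgroup.centralizer (W.Zs : Set G) :=
    mul_mem (W.S_le_centralizer_Zs (W.pc_mem _ _)) hk
  have hnz : n * W.z0 * n⁻¹ = z' := by
    rw [hn, conj_comp, ← hz']
    obtain ⟨i, j, e⟩ := hz'U
    rw [e, conj_pc_by_pc]
  have hna : n * W.ca * n⁻¹ = W.z0 := by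
    rw [hn, conj_comp, hed, conj_pz_by_pc, z0, pz_eq_pz]
    exact ⟨by simp, by simp⟩
  have hz'V : z' ∈ W.V := by
    rcases W.mem_pair.1 hz'a with e | e
    · rw [e]; exact W.ca_mem_V
    · rw [e]; exact W.V.mul_mem W.ca_mem_V (W.Zs_le_V W.cc_mem_Zs)
  have hnN : n ∈ Subgroup.normalizer (W.V : Set G) := by
    refine Transfer.mem_normalizer_of_conj_mem ?_
    rintro t ⟨i, j, ⟨c, hc⟩, hij⟩
    have hpc : n * W.pc i j * n⁻¹ ∈ W.V := by
      rcases Int.even_or_odd' c with ⟨f, rfl | rfl⟩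
      · have hm : W.pc i j ∈ W.Zs := W.pc_mem_Zs_iff.2 ⟨f, by linarith⟩
        rw [← Subgroup.mem_centralizer_iff.mp hnC _ hm, mul_inv_cancel_right]
        exact W.Zs_le_V hm
      · rw [show W.pc i j = W.pc j j * W.ca by
          rw [ca, pc_mul_pc, pc_eq_pc]; exact ⟨⟨f, by linarith⟩, by simp⟩, ← conj_mul, hna,
          ← Subgroup.mem_centralizer_iff.mp hnC _ (W.pc_mem_Zs j), mul_inv_cancel_right]
        exact W.V.mul_mem (W.Zs_le_V (W.pc_mem_Zs j)) W.z0_mem_V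
    rcases hij with rfl | rfl
    · exact hpc
    · rw [show W.pz i j = W.pc i j * W.z0 by rw [z0, pc_mul_pz, add_zero, add_zero], ← conj_mul, hnz]
      exact W.V.mul_mem hpc hz'V
  have hback := W.conj_ca_mem_of_two h2 (Subgroup.inv_mem _ hnN)
  have hzpair : W.z0 ∈ W.pair W.ca := by
    rcases W.mem_pair.1 hz'a with e | e
    · have h3 : n⁻¹ * W.ca * n⁻¹⁻¹ = W.z0 := by rw [← e, ← hnz]; group
      rwa [h3] at hback
    · have h3 : n⁻¹ * W.ca * n⁻¹⁻¹ = W.z0 * W.cc := by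
        have h4 : W.ca = z' * W.cc := by rw [e, mul_assoc, ← pow_two, W.cc_sq, mul_one]
        rw [h4, ← conj_mul, W.conj_cc_of_mem (Subgroup.inv_mem _ hnN), ← hnz]
        group
      rw [h3] at hback
      have h5 := W.pair_eq_of_mem hback
      rw [pair_mul_cc] at h5
      rw [← h5]; exact Or.inl rfl
  exact W.pair_ca_ne_z0 (W.pair_eq_of_mem hzpair).symm

end WRAmb

end Cfsg.Agent.WRFusion
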