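import Cfsg.Agent.Lib.WRFusion.Fusion
import Cfsg.Agent.Lib.SylowCount.Basic
import Cfsg.Agent.Lib.Transfer.EvalPow
import Mathlib.Data.ZMod.Basic

/-!
# Wreathed Sylow 2-subgroups: transfers

Homomorphisms `φ : S → ZMod K`, `x^i y^j ↦ s (i + j)`, `z ↦ e`, and their transfers to `G`.
-/

set_option autoImplicit false
set_option linter.style.haveILetI false
set_option linter.unusedSectionVars false

namespace Cfsg.Agent.WRFusion

/-- Conjugate elements are congruent modulo a subgroup of index two. -/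
theorem comm_mem_of_index_two {G : Type*} [Group G] {L : Subgroup G} (hL : L.index = 2) (g u : G) :
    g * u * g⁻¹ * u⁻¹ ∈ L := by
  rw [Subgroup.mul_mem_iff_of_index_two hL, Subgroup.mul_mem_iff_of_index_two hL,
    Subgroup.mul_mem_iff_of_index_two hL, inv_mem_iff, inv_mem_iff]
  tauto

theorem ofAdd_one_zmod_two :
    Multiplicative.ofAdd (1 : ZMod 2) ≠ 1 ∧ Multiplicative.ofAdd (1 : ZMod 2) ^ 2 = 1 := by decide

namespace WRAmb

variable {G : Type*} [Group G] [Finite G] {S : Sylow 2 G} {m : ℕ} (W : WRAmb S m)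

theorem pc_zpow (i j k : ℤ) : W.pc i j ^ k = W.pc (k * i) (k * j) := by
  induction k with
  | zero => simp [pc_zero]
  | succ k ih => rw [zpow_add_one, ih, pc_mul_pc]; exact W.pc_congr (by ring) (by ring)
  | pred k ih => rw [zpow_sub_one, ih, pc_inv, pc_mul_pc]; exact W.pc_congr (by ring) (by ring)

theorem pc_eq_gens (i j : ℤ) : W.pc i j = W.pc 1 0 ^ i * W.pc 0 1 ^ j := by
  rw [pc_zpow, pc_zpow, pc_mul_pc]; exact W.pc_congr (by ring) (by ring)

theorem conj_gx_z0 : W.z0 * W.pc 1 0 * W.z0⁻¹ = W.pc 0 1 := W.conj_pc_by_pz _ _ _ _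

/-- The homomorphism `x^i y^j ↦ s (i + j)`, `x^i y^j z ↦ s (i + j) + e`. -/
theorem exists_hom (K : ℕ) (s e : ℤ) (hs : (K : ℤ) ∣ 4 * 2 ^ m * s) (he : (K : ℤ) ∣ 2 * e) :
    ∃ φ : ↥(S : Subgroup G) →* Multiplicative (ZMod K),
      (∀ i j, φ ⟨W.pc i j, W.pc_mem i j⟩ = Multiplicative.ofAdd ((s * (i + j) : ℤ) : ZMod K)) ∧
      (∀ i j, φ ⟨W.pz i j, W.pz_mem i j⟩ = Multiplicative.ofAdd ((s * (i + j) + e : ℤ) : ZMod K)) := by
  classical
  let val : ↥(S : Subgroup G) → ZMod K := fun g =>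
    if (g : G) ∈ W.U then
      ((s * ((W.cases g.2).choose + (W.cases g.2).choose_spec.choose) : ℤ) : ZMod K)
    else ((s * ((W.cases g.2).choose + (W.cases g.2).choose_spec.choose) + e : ℤ) : ZMod K)
  have spec : ∀ g : ↥(S : Subgroup G),
      (g : G) = W.pc (W.cases g.2).choose (W.cases g.2).choose_spec.choose ∨
      (g : G) = W.pz (W.cases g.2).choose (W.cases g.2).choose_spec.choose :=
    fun g => (W.cases g.2).choose_spec.choose_spec
  have hpc : ∀ i j, val ⟨W.pc i j, W.pc_mem i j⟩ = ((s * (i + j) : ℤ) : ZMod K) := by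
    intro i j
    simp only [val, if_pos (W.pc_mem_U i j)]
    rw [ZMod.intCast_eq_intCast_iff_dvd_sub]
    rcases spec ⟨W.pc i j, W.pc_mem i j⟩ with h | h
    · obtain ⟨⟨c, hc⟩, ⟨d, hd⟩⟩ := W.pc_eq_pc.1 h
      refine dvd_trans hs ⟨c + d, ?_⟩
      linear_combination s * hc + s * hd
    · exact absurd h (W.pc_ne_pz _ _ _ _)
  have hpz : ∀ i j, val ⟨W.pz i j, W.pz_mem i j⟩ = ((s * (i + j) + e : ℤ) : ZMod K) := by
    intro i j
    simp only [val, if_neg (W.pz_not_mem_U i j)]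
    rw [ZMod.intCast_eq_intCast_iff_dvd_sub]
    rcases spec ⟨W.pz i j, W.pz_mem i j⟩ with h | h
    · exact absurd h.symm (W.pc_ne_pz _ _ _ _)
    · obtain ⟨⟨c, hc⟩, ⟨d, hd⟩⟩ := W.pz_eq_pz.1 h
      refine dvd_trans hs ⟨c + d, ?_⟩
      linear_combination s * hc + s * hd
  refine ⟨MonoidHom.mk' (fun g => Multiplicative.ofAdd (val g)) fun a b => ?_,
    fun i j => congrArg Multiplicative.ofAdd (hpc i j), fun i j => congrArg Multiplicative.ofAdd (hpz i j)⟩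
  rw [← ofAdd_add]
  congr 1
  obtain ⟨i, j, ha⟩ := W.cases a.2
  obtain ⟨k, l, hb⟩ := W.cases b.2
  have he0 : ((2 * e : ℤ) : ZMod K) = 0 := (ZMod.intCast_zmod_eq_zero_iff_dvd _ _).mpr he
  rcases ha with ha | ha <;> rcases hb with hb | hb
  · rw [show a * b = ⟨W.pc (i + k) (j + l), W.pc_mem _ _⟩ from Subtype.ext (by
      rw [Subgroup.coe_mul, ha, hb, pc_mul_pc]), show a = ⟨W.pc i j, W.pc_mem i j⟩ from Subtype.ext ha,
      show b = ⟨W.pc k l, W.pc_mem k l⟩ from Subtype.ext hb, hpc, hpc, hpc]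
    push_cast; ring
  · rw [show a * b = ⟨W.pz (i + k) (j + l), W.pz_mem _ _⟩ from Subtype.ext (by
      rw [Subgroup.coe_mul, ha, hb, pc_mul_pz]), show a = ⟨W.pc i j, W.pc_mem i j⟩ from Subtype.ext ha,
      show b = ⟨W.pz k l, W.pz_mem k l⟩ from Subtype.ext hb, hpc, hpz, hpz]
    push_cast; ring
  · rw [show a * b = ⟨W.pz (i + l) (j + k), W.pz_mem _ _⟩ from Subtype.ext (by
      rw [Subgroup.coe_mul, ha, hb, pz_mul_pc]), show a = ⟨W.pz i j, W.pz_mem i j⟩ from Subtype.ext ha,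
      show b = ⟨W.pc k l, W.pc_mem k l⟩ from Subtype.ext hb, hpz, hpc, hpz]
    push_cast; ring
  · rw [show a * b = ⟨W.pc (i + l) (j + k), W.pc_mem _ _⟩ from Subtype.ext (by
      rw [Subgroup.coe_mul, ha, hb, pz_mul_pz]), show a = ⟨W.pz i j, W.pz_mem i j⟩ from Subtype.ext ha,
      show b = ⟨W.pz k l, W.pz_mem k l⟩ from Subtype.ext hb, hpz, hpz, hpc]
    push_cast at he0 ⊢
    linear_combination -he0

theorem odd_index (_W : WRAmb S m) : Odd (S : Subgroup G).index := by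
  haveI : Fact (Nat.Prime 2) := ⟨Nat.prime_two⟩
  rw [← Nat.not_even_iff_odd]
  exact fun h => S.not_dvd_index (even_iff_two_dvd.mp h)

/-- An involution conjugate to `z` but not fused into `U` is `x^d y^(-d) z`. -/
theorem eq_pz_of_isConj_z0 (hza : ¬ IsConj W.z0 W.ca) (hzc : ¬ IsConj W.z0 W.cc) {t : G}
    (ht : t ∈ (S : Subgroup G)) (h : IsConj W.z0 t) : ∃ d, t = W.pz d (-d) := by
  have ho : orderOf t = 2 := by
    obtain ⟨g, rfl⟩ := isConj_iff.mp h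
    rw [orderOf_conj, W.orderOf_z0]
  rcases W.involution_cases ht ho with rfl | rfl | rfl | hd
  · exact absurd h hza
  · exact absurd (h.trans W.isConj_ca_cb.symm) hza
  · exact absurd h hzc
  · exact hd

/-- With automizer 2 on `U`: a power of `x` conjugate into `S` outside `U` is `x ^ (2q)`. -/
theorem conj_gx_pow (h2 : (Subgroup.centralizer (W.U : Set G)).relIndex
      (Subgroup.normalizer (W.U : Set G)) = 2) {k : ℕ} {g : G} {i j : ℤ}
    (he : g * W.pc k 0 * g⁻¹ = W.pz i j) :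
    (4 : ℤ) * 2 ^ m ∣ (k : ℤ) - 2 * 2 ^ m ∧ (4 : ℤ) * 2 ^ m ∣ i + j := by
  have hsq : g * W.pc (2 * k) 0 * g⁻¹ = W.pc (i + j) (i + j) := by
    have := congrArg (· ^ 2) he
    simp only [conj_pow, pc_sq, pz_sq, mul_zero] at this
    exact this
  obtain ⟨h1, h2'⟩ : (4 : ℤ) * 2 ^ m ∣ 2 * (k : ℤ) ∧ (4 : ℤ) * 2 ^ m ∣ i + j := by
    rcases W.fix_or_swap h2 (W.pc_mem_U (2 * k) 0) (hsq ▸ W.pc_mem_U _ _) with e | e
    · rw [hsq, pc_eq_pc, sub_zero] at e
      exact ⟨by have := dvd_sub e.2 e.1; rwa [sub_sub_cancel] at this, e.2⟩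
    · rw [hsq, z0, conj_pc_by_pz, pc_eq_pc, sub_zero] at e
      exact ⟨by have := dvd_sub e.1 e.2; rwa [sub_sub_cancel] at this, e.1⟩
  refine ⟨?_, h2'⟩
  obtain ⟨c, hc⟩ := h1
  rcases Int.even_or_odd' c with ⟨d, rfl | rfl⟩
  · exfalso
    have h0 : W.pc k 0 = 1 := W.pc_eq_one.2 ⟨⟨d, by linarith⟩, by simp⟩
    rw [h0, mul_one, mul_inv_cancel] at he
    exact W.pz_ne_one i j he.symm
  · exact ⟨d, by linarith⟩

theorem exists_cycle_comm_le {L : Subgroup G} {n : G} (hn : n ∈ Subgroup.normalizer (W.U : Set G))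
    (ha : n * W.ca * n⁻¹ = W.cb) (hb : n * W.cb * n⁻¹ = W.cc) (hc : n * W.cc * n⁻¹ = W.ca)
    (hL : ∀ u ∈ W.U, n * u * n⁻¹ * u⁻¹ ∈ L) : W.U ≤ L := by
  have hmem : ∀ u : W.U, n * u.1 * n⁻¹ * u.1⁻¹ ∈ W.U := fun u =>
    W.U.mul_mem ((Subgroup.mem_normalizer_iff.mp hn _).mp u.2) (W.U.inv_mem u.2)
  let f : W.U → W.U := fun u => ⟨_, hmem u⟩
  have hinj : Function.Injective f := by
    intro u v e
    have e' : n * u.1 * n⁻¹ * u.1⁻¹ = n * v.1 * n⁻¹ * v.1⁻¹ := congrArg Subtype.val e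
    have huU : n * u.1 * n⁻¹ ∈ W.U := (Subgroup.mem_normalizer_iff.mp hn _).mp u.2
    have hvU : n * v.1 * n⁻¹ ∈ W.U := (Subgroup.mem_normalizer_iff.mp hn _).mp v.2
    set d : G := u.1 * v.1⁻¹ with hd
    have hdU : d ∈ W.U := W.U.mul_mem u.2 (W.U.inv_mem v.2)
    have hdfix : n * d * n⁻¹ = d := by
      rw [hd, ← conj_mul, ← conj_inv]
      have e1 : n * u.1 * n⁻¹ = n * v.1 * n⁻¹ * (v.1⁻¹ * u.1) := by
        rw [← mul_assoc, ← e']; group
      rw [e1, W.U_comm (W.U.inv_mem v.2) u.2]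
      rw [W.U_comm (W.U.mul_mem hvU (W.U.mul_mem u.2 (W.U.inv_mem v.2))) (W.U.inv_mem hvU)]
      group
    by_contra hne
    have hd1 : d ≠ 1 := fun h1 => hne (Subtype.ext (mul_inv_eq_one.mp h1))
    obtain ⟨k, hk⟩ := IsPGroup.iff_orderOf.mp S.2 ⟨d, W.U_le hdU⟩
    rw [Subgroup.orderOf_mk] at hk
    have hk0 : k ≠ 0 := fun h0 => hd1 (orderOf_eq_one_iff.mp (by rw [hk, h0, pow_zero]))
    have hto : orderOf (d ^ 2 ^ (k - 1)) = 2 := by
      rw [orderOf_pow_of_dvd (by positivity) (hk ▸ pow_dvd_pow 2 (by omega)), hk,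
        Nat.pow_div (by omega) (by norm_num), show k - (k - 1) = 1 by omega, pow_one]
    have htfix : n * d ^ 2 ^ (k - 1) * n⁻¹ = d ^ 2 ^ (k - 1) := by rw [← conj_pow, hdfix]
    rcases W.involution_mem_U (pow_mem hdU _) hto with e | e | e <;> rw [e] at htfix
    · exact W.ca_ne_cb (htfix.symm.trans ha)
    · exact W.cb_ne_cc (htfix.symm.trans hb)
    · exact W.ca_ne_cc (hc.symm.trans htfix)
  intro v hv
  obtain ⟨u, hu⟩ := (Finite.injective_iff_surjective.mp hinj) ⟨v, hv⟩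
  have hu' : n * u.1 * n⁻¹ * u.1⁻¹ = v := congrArg Subtype.val hu
  rw [← hu']
  exact hL _ u.2

/-- With automizer 6 on `U`, `U` lies in every subgroup of index two. -/
theorem U_le_of_six (h6 : (Subgroup.centralizer (W.U : Set G)).relIndex
    (Subgroup.normalizer (W.U : Set G)) = 6) {L : Subgroup G} (hL : L.index = 2) : W.U ≤ L := by
  obtain ⟨n, hn, ha, hb, hc⟩ := W.U_cycle h6 (N := 1) (by norm_num)
  exact W.exists_cycle_comm_le (pow_mem hn 1) ha hb hc fun u _ => comm_mem_of_index_two hL _ u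

/-- If `z` is not fused into `U` some subgroup of index two misses `z`, and contains `U`. -/
theorem exists_index_two (hza : ¬ IsConj W.z0 W.ca) (hzc : ¬ IsConj W.z0 W.cc) :
    ∃ M : Subgroup G, M.Normal ∧ M.index = 2 ∧ W.z0 ∉ M ∧ W.U ≤ M := by
  haveI : Fact (Nat.Prime 2) := ⟨Nat.prime_two⟩
  obtain ⟨φ, hpc, hpz⟩ := W.exists_hom 2 0 1 (by simp) (by simp)
  simp only [zero_mul, zero_add, Int.cast_zero, Int.cast_one, ofAdd_zero] at hpc hpz
  set f := MonoidHom.transfer φ with hf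
  have hzf : f W.z0 ≠ 1 := by
    have hval : φ ⟨W.z0, W.pz_mem 0 0⟩ = Multiplicative.ofAdd (1 : ZMod 2) := hpz 0 0
    rw [hf, Transfer.transfer_apply_eq_pow_index φ (g := W.z0) (W.pz_mem 0 0) ?_, hval]
    · obtain ⟨c, hc⟩ := W.odd_index
      rw [hc, pow_succ, pow_mul, ofAdd_one_zmod_two.2, one_pow, one_mul]
      exact ofAdd_one_zmod_two.1
    · intro k g₀ hk
      rcases Nat.even_or_odd' k with ⟨c, rfl | rfl⟩
      · have e : g₀⁻¹ * W.z0 ^ (2 * c) * g₀ = 1 := by rw [pow_mul, W.z0_sq, one_pow]; group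
        rw [show (⟨_, hk⟩ : ↥(S : Subgroup G)) = 1 from Subtype.ext e, map_one, hval, pow_mul]
        symm
        rw [ofAdd_one_zmod_two.2, one_pow]
      · have e : g₀⁻¹ * W.z0 ^ (2 * c + 1) * g₀ = g₀⁻¹ * W.z0 * g₀ := by
          rw [pow_succ, pow_mul, W.z0_sq, one_pow, one_mul]
        have hc' : IsConj W.z0 (g₀⁻¹ * W.z0 ^ (2 * c + 1) * g₀) :=
          isConj_iff.mpr ⟨g₀⁻¹, by rw [e, inv_inv]⟩
        obtain ⟨d, hd⟩ := W.eq_pz_of_isConj_z0 hza hzc hk hc'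
        rw [show (⟨_, hk⟩ : ↥(S : Subgroup G)) = ⟨W.pz d (-d), W.pz_mem _ _⟩ from Subtype.ext hd, hpz,
          hval, pow_succ, pow_mul, ofAdd_one_zmod_two.2, one_pow, one_mul]
  have hidx : f.ker.index = 2 := by
    rw [Subgroup.index_ker]
    have h1 : Nat.card f.range ∣ 2 := (Subgroup.card_subgroup_dvd_card _).trans
      (by rw [Nat.card_congr Multiplicative.toAdd, Nat.card_zmod])
    refine (Nat.prime_two.eq_one_or_self_of_dvd _ h1).resolve_left fun h => hzf ?_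
    rw [Subgroup.card_eq_one] at h
    exact Subgroup.mem_bot.mp (h.le ⟨W.z0, rfl⟩)
  refine ⟨f.ker, inferInstance, hidx, hzf, ?_⟩
  rcases W.relIndex_U with h2 | h6
  · have hxf : f (W.pc 1 0) = 1 := by
      rw [hf, Transfer.transfer_apply_eq_pow_index φ (W.pc_mem 1 0) ?_, hpc, one_pow]
      intro k g₀ hk
      rw [hpc, one_pow]
      obtain ⟨i, j, e | e⟩ := W.cases hk
      · rw [show (⟨_, hk⟩ : ↥(S : Subgroup G)) = ⟨W.pc i j, W.pc_mem _ _⟩ from Subtype.ext e, hpc]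
      · exfalso
        rw [pc_pow, mul_one, mul_zero] at e
        have e' : g₀⁻¹ * W.pc k 0 * g₀⁻¹⁻¹ = W.pz i j := by rwa [inv_inv]
        obtain ⟨h1, h3⟩ := W.conj_gx_pow h2 e'
        have hka : W.pc k 0 = W.ca := W.pc_eq_pc.2 ⟨h1, by simp⟩
        have hpz' : W.pz i j = W.pz i (-i) :=
          W.pz_eq_pz.2 ⟨by simp, by rw [sub_neg_eq_add, add_comm]; exact h3⟩
        rw [hka, hpz'] at e'
        exact hza ((W.isConj_z0_pz i).trans (show IsConj W.ca _ from isConj_iff.mpr ⟨_, e'⟩).symm)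
    have hyf : f (W.pc 0 1) = 1 := by
      rw [← W.conj_gx_z0, map_mul, map_mul, hxf, mul_one, map_inv, mul_inv_cancel]
    rintro _ ⟨i, j, rfl⟩
    rw [MonoidHom.mem_ker, pc_eq_gens, map_mul, map_zpow, map_zpow, hxf, hyf, one_zpow, one_zpow, one_mul]
  · exact W.U_le_of_six h6 hidx

/-- The Sylow 2-subgroups of a normal subgroup `M` are isomorphic to `S ∩ M`. -/
theorem nonempty_equiv_inf (_W : WRAmb S m) {M : Subgroup G} [M.Normal] (P : Sylow 2 M) :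
    Nonempty ((P : Subgroup M) ≃* M.subgroupOf (S : Subgroup G)) := by
  haveI : Fact (Nat.Prime 2) := ⟨Nat.prime_two⟩
  obtain ⟨R, hR⟩ := SylowCount.exists_sylow_inf S M
  obtain ⟨c, hc⟩ := MulAction.exists_smul_eq M P R
  have hcP : (R : Subgroup M) = (P : Subgroup M).map (MulAut.conj c).toMonoidHom := by
    rw [← hc, Sylow.coe_subgroup_smul]; rfl
  have e1 : (R : Subgroup M).map M.subtype =
      (M.subgroupOf (S : Subgroup G)).map (S : Subgroup G).subtype := by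
    rw [hR, Subgroup.subgroupOf_map_subtype, Subgroup.subgroupOf_map_subtype, inf_comm]
  exact ⟨(((P : Subgroup M).equivMapOfInjective (MulAut.conj c).toMonoidHom (MulAut.conj c).injective).trans
    (MulEquiv.subgroupCongr hcP.symm)).trans
    ((((R : Subgroup M).equivMapOfInjective M.subtype M.subtype_injective).trans
      (MulEquiv.subgroupCongr e1)).trans
      ((M.subgroupOf (S : Subgroup G)).equivMapOfInjective _ (Subgroup.subtype_injective _)).symm)⟩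

/-- A subgroup of index two of a normal `M` cannot contain `S ∩ M`. -/
theorem false_of_inf_le (_W : WRAmb S m) {M : Subgroup G} [M.Normal] {L : Subgroup M} (hL : L.index = 2)
    (hall : ∀ g ∈ (S : Subgroup G), g ∈ M → g ∈ L.map M.subtype) : False := by
  haveI : Fact (Nat.Prime 2) := ⟨Nat.prime_two⟩
  obtain ⟨R, hR⟩ := SylowCount.exists_sylow_inf S M
  have hle : (R : Subgroup M) ≤ L := by
    rintro ⟨g, hgM⟩ hg
    rw [hR] at hg
    obtain ⟨l, hl, hlg⟩ := hall g hg hgM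
    have : l = ⟨g, hgM⟩ := Subtype.ext hlg
    rwa [← this]
  exact R.not_dvd_index ((dvd_of_eq hL.symm).trans (Subgroup.index_dvd_of_le hle))

/-! ### The case `|N(U):C(U)| = 2`, `|N(V):VC(V)| = 6` -/

/-- The transfer of `det : S → ZMod (4q)` restricts to `S` as a power of `det`. -/
theorem exists_det (h2 : (Subgroup.centralizer (W.U : Set G)).relIndex
      (Subgroup.normalizer (W.U : Set G)) = 2) (hza : IsConj W.ca W.z0) :
    ∃ f : G →* Multiplicative (ZMod (4 * 2 ^ m)),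
      (∀ i j, f (W.pc i j) = Multiplicative.ofAdd ((i + j : ℤ) : ZMod (4 * 2 ^ m)) ^ (S : Subgroup G).index) ∧
      (∀ i j, f (W.pz i j) =
        Multiplicative.ofAdd ((i + j + 2 * 2 ^ m : ℤ) : ZMod (4 * 2 ^ m)) ^ (S : Subgroup G).index) := by
  obtain ⟨φ, hpc, hpz⟩ := W.exists_hom (4 * 2 ^ m) 1 (2 * 2 ^ m) (by push_cast; simp)
    ⟨1, by push_cast; ring⟩
  simp only [one_mul] at hpc hpz
  set f := MonoidHom.transfer φ with hf
  have hN : ∀ a b : ℤ, (4 : ℤ) * 2 ^ m ∣ a - b →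
      Multiplicative.ofAdd (a : ZMod (4 * 2 ^ m)) = Multiplicative.ofAdd (b : ZMod (4 * 2 ^ m)) := by
    intro a b hd
    refine congrArg _ ((ZMod.intCast_eq_intCast_iff_dvd_sub _ _ _).mpr ?_)
    push_cast
    rw [← neg_sub, dvd_neg]
    exact hd
  have hx : f (W.pc 1 0) = Multiplicative.ofAdd ((1 : ℤ) : ZMod (4 * 2 ^ m)) ^ (S : Subgroup G).index := by
    rw [hf, Transfer.transfer_apply_eq_pow_index φ (W.pc_mem 1 0) ?_, hpc, add_zero]
    intro k g₀ hk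
    rw [hpc, add_zero, ← ofAdd_nsmul, nsmul_eq_mul, Int.cast_one, mul_one,
      show ((k : ℕ) : ZMod (4 * 2 ^ m)) = ((k : ℤ) : ZMod (4 * 2 ^ m)) by rw [Int.cast_natCast]]
    have hek : g₀⁻¹ * W.pc 1 0 ^ k * g₀ = g₀⁻¹ * W.pc k 0 * g₀⁻¹⁻¹ := by
      rw [pc_pow, mul_one, mul_zero, inv_inv]
    obtain ⟨i, j, e | e⟩ := W.cases hk
    · rw [show (⟨_, hk⟩ : ↥(S : Subgroup G)) = ⟨W.pc i j, W.pc_mem _ _⟩ from Subtype.ext e, hpc]
      rw [hek] at e
      rcases W.fix_or_swap h2 (W.pc_mem_U k 0) (e ▸ W.pc_mem_U i j) with e' | e'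
      · rw [e, pc_eq_pc] at e'
        exact hN _ _ (by rw [show i + j - (k : ℤ) = (i - k) + (j - 0) by ring]; exact dvd_add e'.1 e'.2)
      · rw [e, z0, conj_pc_by_pz, pc_eq_pc] at e'
        exact hN _ _ (by rw [show i + j - (k : ℤ) = (i - 0) + (j - k) by ring]; exact dvd_add e'.1 e'.2)
    · rw [show (⟨_, hk⟩ : ↥(S : Subgroup G)) = ⟨W.pz i j, W.pz_mem _ _⟩ from Subtype.ext e, hpz]
      rw [hek] at e
      obtain ⟨h1, h3⟩ := W.conj_gx_pow h2 e
      exact hN _ _ (by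
        rw [show i + j + 2 * 2 ^ m - (k : ℤ) = (i + j) - ((k : ℤ) - 2 * 2 ^ m) by ring]
        exact dvd_sub h3 h1)
  have hy : f (W.pc 0 1) = f (W.pc 1 0) := by
    rw [← W.conj_gx_z0, map_mul, map_mul, map_inv, mul_comm (f W.z0), mul_assoc, mul_inv_cancel, mul_one]
  have hU : ∀ i j, f (W.pc i j) =
      Multiplicative.ofAdd ((i + j : ℤ) : ZMod (4 * 2 ^ m)) ^ (S : Subgroup G).index := by
    intro i j
    rw [pc_eq_gens, map_mul, map_zpow, map_zpow, hy, ← zpow_add, hx]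
    apply Multiplicative.toAdd.injective
    simp only [toAdd_zpow, toAdd_pow, toAdd_ofAdd, zsmul_eq_mul, nsmul_eq_mul]
    push_cast
    ring
  refine ⟨f, hU, fun i j => ?_⟩
  obtain ⟨g, hg⟩ := isConj_iff.mp hza
  have hzv : f W.z0 = f W.ca := by
    rw [← hg, map_mul, map_mul, map_inv, mul_comm (f g), mul_assoc, mul_inv_cancel, mul_one]
  rw [show W.pz i j = W.pc i j * W.z0 by rw [z0, pc_mul_pz, add_zero, add_zero], map_mul, hzv, ca, hU, hU,
    ← mul_pow]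
  congr 1
  rw [← ofAdd_add]
  push_cast
  ring_nf

/-- The normal subgroup `K` of index `2^n` with `S ∩ K` generalized quaternion. -/
theorem exists_quaternion_kernel (h2 : (Subgroup.centralizer (W.U : Set G)).relIndex
      (Subgroup.normalizer (W.U : Set G)) = 2) (hza : IsConj W.ca W.z0) :
    ∃ K : Subgroup G, K.Normal ∧ K.index = 2 ^ (m + 2) ∧
      (∀ i j, W.pc i j ∈ K ↔ (4 : ℤ) * 2 ^ m ∣ i + j) ∧
      (∀ i j, W.pz i j ∈ K ↔ (4 : ℤ) * 2 ^ m ∣ i + j + 2 * 2 ^ m) ∧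
      (∀ g t : ℤ, ∀ c : G, ∀ i j : ℤ, c * W.pc g g * c⁻¹ = W.pz i j → i + j = t →
        (4 : ℤ) * 2 ^ m ∣ t + 2 * 2 ^ m - 2 * g) := by
  haveI : Fact (Nat.Prime 2) := ⟨Nat.prime_two⟩
  obtain ⟨f, hU, hZ⟩ := W.exists_det h2 hza
  have hcard : Nat.card (Multiplicative (ZMod (4 * 2 ^ m))) = 2 ^ (m + 2) := by
    rw [Nat.card_congr Multiplicative.toAdd, Nat.card_zmod]; ring
  have hcop : (Nat.card (Multiplicative (ZMod (4 * 2 ^ m)))).Coprime (S : Subgroup G).index := by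
    rw [hcard]; exact ((Nat.Prime.coprime_iff_not_dvd Nat.prime_two).mpr S.not_dvd_index).pow_left _
  haveI : NeZero (4 * 2 ^ m) := ⟨by positivity⟩
  have hone : ∀ a : ℤ, Multiplicative.ofAdd (a : ZMod (4 * 2 ^ m)) ^ (S : Subgroup G).index = 1 ↔
      (4 : ℤ) * 2 ^ m ∣ a := by
    intro a
    have h1 : Multiplicative.ofAdd (a : ZMod (4 * 2 ^ m)) ^ (S : Subgroup G).index = 1 ↔
        Multiplicative.ofAdd (a : ZMod (4 * 2 ^ m)) = 1 :=
      ⟨fun h => (powCoprime hcop).injective (h.trans (one_pow _).symm), fun h => by rw [h, one_pow]⟩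
    rw [h1, ofAdd_eq_one, ZMod.intCast_zmod_eq_zero_iff_dvd]
    push_cast
    rfl
  have hsurj : Function.Surjective f := by
    intro v
    obtain ⟨w, hw⟩ := (powCoprime hcop).surjective v
    refine ⟨W.pc ((Multiplicative.toAdd w).val : ℤ) 0, ?_⟩
    rw [hU, add_zero, Int.cast_natCast, ZMod.natCast_zmod_val, ofAdd_toAdd]
    exact hw
  refine ⟨f.ker, inferInstance, ?_, fun i j => ?_, fun i j => ?_, ?_⟩
  · rw [Subgroup.index_ker, MonoidHom.range_eq_top.mpr hsurj, Subgroup.card_top, hcard]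
  · rw [MonoidHom.mem_ker, hU, hone]
  · rw [MonoidHom.mem_ker, hZ, hone]
  · rintro g _ c i j e rfl
    have h1 := congrArg f e
    rw [map_mul, map_mul, map_inv, mul_comm (f c), mul_assoc, mul_inv_cancel, mul_one, hU, hZ] at h1
    have h3 := congrArg Multiplicative.toAdd ((powCoprime hcop).injective h1)
    rw [toAdd_ofAdd, toAdd_ofAdd, ZMod.intCast_eq_intCast_iff_dvd_sub] at h3
    push_cast at h3
    rw [two_mul g]
    exact h3

theorem pc_sq_q_mem_Q0 : W.pc (2 ^ m) (-(2 ^ m)) ∈ W.Q0 :=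
  ⟨_, _, dvd_rfl, Or.inl ⟨rfl, by simp⟩⟩

/-- The subgroup `S ∩ K` lies in `⁅K, K⁆`. -/
theorem le_commutator_of_six (h6 : (W.V ⊔ Subgroup.centralizer (W.V : Set G)).relIndex
      (Subgroup.normalizer (W.V : Set G)) = 6) {K : Subgroup G} [K.Normal] (hidx : K.index = 2 ^ (m + 2))
    (hKU : ∀ i j, W.pc i j ∈ K ↔ (4 : ℤ) * 2 ^ m ∣ i + j)
    (hKZ : ∀ i j, W.pz i j ∈ K ↔ (4 : ℤ) * 2 ^ m ∣ i + j + 2 * 2 ^ m)
    {g : G} (hg : g ∈ (S : Subgroup G)) (hgK : g ∈ K) : g ∈ ⁅K, K⁆ := by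
  set D := ⁅K, K⁆ with hD
  set u0 := W.pc (2 ^ m) (-(2 ^ m)) with hu0
  set g0 := W.pz (2 ^ m) (2 ^ m) with hg0
  have hu0K : u0 ∈ K := (hKU _ _).2 ⟨0, by ring⟩
  have hg0K : g0 ∈ K := (hKZ _ _).2 ⟨1, by ring⟩
  have hcomm : ∀ a ∈ K, ∀ b ∈ K, a * b * a⁻¹ * b⁻¹ ∈ D := fun a ha b hb => by
    have := Subgroup.commutator_mem_commutator ha hb
    rwa [commutatorElement_def] at this
  have hcc : W.cc ∈ D := by
    have h1 := hcomm g0 hg0K u0 hu0K
    rwa [hg0, hu0, conj_pc_by_pz, pc_inv, pc_mul_pc,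
      show W.pc (-(2 : ℤ) ^ m + -(2 : ℤ) ^ m) (2 ^ m + -(-(2 : ℤ) ^ m)) = W.cc from
        W.pc_eq_pc.2 ⟨⟨-1, by ring⟩, ⟨0, by ring⟩⟩] at h1
  have hN3 : ¬ 3 ∣ 2 ^ (m + 2) := fun h => by
    have := (Nat.prime_three).dvd_of_dvd_pow h; omega
  obtain ⟨n, hn, h1, h2', -⟩ := W.V_cycle h6 hN3
  have hnK : n ^ 2 ^ (m + 2) ∈ K := hidx ▸ Subgroup.pow_index_mem K n
  set v := n ^ 2 ^ (m + 2) with hv
  have hvN : v ∈ Subgroup.normalizer (W.V : Set G) := pow_mem hn _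
  have hvC := W.normalizer_V_le hvN
  have hwfix : v * W.pc (2 ^ m) (2 ^ m) * v⁻¹ = W.pc (2 ^ m) (2 ^ m) := by
    rw [← Subgroup.mem_centralizer_iff.mp hvC _ (W.pc_mem_Zs _), mul_inv_cancel_right]
  have hu0e : u0 = W.pc (2 ^ m) (2 ^ m) * (W.ca * W.cc) := by
    rw [ca, cc, pc_mul_pc, pc_mul_pc, hu0, pc_eq_pc]
    exact ⟨⟨-1, by ring⟩, ⟨-1, by ring⟩⟩
  have hg0e : g0 = W.pc (2 ^ m) (2 ^ m) * W.z0 := by
    rw [z0, pc_mul_pz, hg0, add_zero]
  have hg1e : W.pc (2 ^ m) (2 ^ m) * W.p0 = u0 * g0 := by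
    rw [p0, pc_mul_pz, hu0, hg0, pc_mul_pz]; exact W.pz_congr rfl (by ring)
  have hmodc : ∀ a b : G, a ∈ D → (b = a ∨ b = a * W.cc) → b ∈ D := fun a b ha hb => by
    rcases hb with rfl | rfl
    exacts [ha, D.mul_mem ha hcc]
  -- `u0 ≡ g0 ≡ u0 * g0` modulo `D`
  have k1 : g0 * u0⁻¹ ∈ D := by
    have hc1 := hcomm v hnK u0 hu0K
    rw [hu0e, ← conj_mul, ← conj_mul, hwfix, W.conj_cc_of_mem hvN, ← hu0e] at hc1
    rcases W.mem_pair.1 h1 with e | e
    · rw [e, ← mul_assoc, ← hg0e] at hc1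
      have hc2 : g0 * u0⁻¹ * (u0 * W.cc * u0⁻¹) ∈ D := by
        rwa [show g0 * u0⁻¹ * (u0 * W.cc * u0⁻¹) = g0 * W.cc * u0⁻¹ by group]
      haveI : D.Normal := Subgroup.commutator_normal K K
      have hc3 := D.mul_mem hc2 (D.inv_mem (Subgroup.Normal.conj_mem inferInstance _ hcc u0))
      rwa [mul_inv_cancel_right] at hc3
    · rw [e, mul_assoc W.z0, ← pow_two, W.cc_sq, mul_one, ← hg0e] at hc1
      exact hc1
  have k2 : u0 ∈ D := by
    have hc1 := hcomm v hnK g0 hg0K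
    rw [hg0e, ← conj_mul, hwfix, ← hg0e] at hc1
    rcases W.mem_pair.1 h2' with e | e
    · rw [e, hg1e, mul_inv_cancel_right] at hc1
      exact hc1
    · rw [e, ← mul_assoc, hg1e] at hc1
      haveI : D.Normal := Subgroup.commutator_normal K K
      have hc2 : u0 * (g0 * W.cc * g0⁻¹) ∈ D := by
        rwa [show u0 * (g0 * W.cc * g0⁻¹) = u0 * g0 * W.cc * g0⁻¹ by group]
      have hc3 := D.mul_mem hc2 (D.inv_mem (Subgroup.Normal.conj_mem inferInstance _ hcc g0))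
      rwa [mul_inv_cancel_right] at hc3
  have k3 : g0 ∈ D := by
    have := D.mul_mem k1 k2
    rwa [inv_mul_cancel_right] at this
  haveI : D.Normal := Subgroup.commutator_normal K K
  have hall : ∀ d : ℤ, W.pz (2 ^ m + d) (2 ^ m - d) ∈ D := fun d => by
    have := Subgroup.Normal.conj_mem inferInstance _ k3 (W.pc d 0)
    rwa [hg0, conj_pz_by_pc, show W.pz (d + 2 ^ m - 0) (0 + 2 ^ m - d) = W.pz (2 ^ m + d) (2 ^ m - d) from
      W.pz_congr (by ring) (by ring)] at this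
  obtain ⟨i, j, rfl | rfl⟩ := W.cases hg
  · obtain ⟨c, hc⟩ := (hKU i j).1 hgK
    have := D.mul_mem (hall i) (D.inv_mem k3)
    rw [hg0, pz_inv, pz_mul_pz] at this
    rwa [show W.pc i j = W.pc (2 ^ m + i + -2 ^ m) (2 ^ m - i + -2 ^ m) from
      W.pc_eq_pc.2 ⟨⟨0, by ring⟩, ⟨c, by linarith⟩⟩]
  · obtain ⟨c, hc⟩ := (hKZ i j).1 hgK
    rw [show W.pz i j = W.pz (2 ^ m + (i - 2 ^ m)) (2 ^ m - (i - 2 ^ m)) from
      W.pz_eq_pz.2 ⟨⟨0, by ring⟩, ⟨c - 1, by linarith⟩⟩]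
    exact hall _

/-- `S ∩ K` is generalized quaternion. -/
theorem nonempty_equiv_quaternion {K : Subgroup G}
    (hKU : ∀ i j, W.pc i j ∈ K ↔ (4 : ℤ) * 2 ^ m ∣ i + j)
    (hKZ : ∀ i j, W.pz i j ∈ K ↔ (4 : ℤ) * 2 ^ m ∣ i + j + 2 * 2 ^ m) :
    Nonempty (K.subgroupOf (S : Subgroup G) ≃* QuaternionGroup (2 ^ (m + 1))) := by
  have hk : 4 * 2 ^ m ∣ 2 ^ (m + 2) := ⟨1, by ring⟩
  have he : ((4 * 2 ^ m : ℕ) : ℤ) ∣ 2 * (2 * 2 ^ m) := ⟨1, by push_cast; ring⟩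
  have heq : K.subgroupOf (S : Subgroup G) = W.gen.ext (4 * 2 ^ m) (2 * 2 ^ m) he := by
    ext s
    rw [Subgroup.mem_subgroupOf]
    obtain ⟨i, j, rfl | rfl⟩ := W.gen.exists_form s
    · rw [W.gen.pr_mem_ext hk he]; push_cast; exact hKU i j
    · rw [W.gen.prz_mem_ext hk he]; push_cast
      refine (hKZ i j).trans ⟨fun ⟨c, hc⟩ => ⟨c - 1, by linarith⟩, fun ⟨c, hc⟩ => ⟨c + 1, by linarith⟩⟩
  have hcard : Nat.card (K.subgroupOf (S : Subgroup G)) = 4 * 2 ^ (m + 1) := by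
    have h1 := W.gen.card_ext hk he
    rw [← heq] at h1
    have h4 : (4 * 2 ^ m) ≠ 0 := by positivity
    refine mul_right_cancel₀ h4 (h1.trans ?_)
    ring
  have ha : W.pc 1 (-1) ∈ K := (hKU _ _).2 (by simp)
  have hb : W.pz (2 * 2 ^ m) 0 ∈ K := (hKZ _ _).2 ⟨1, by ring⟩
  let a : K.subgroupOf (S : Subgroup G) := ⟨⟨_, W.pc_mem 1 (-1)⟩, ha⟩
  let b : K.subgroupOf (S : Subgroup G) := ⟨⟨_, W.pz_mem (2 * 2 ^ m) 0⟩, hb⟩
  refine PGroup.quaternionEquivOfRel (a := a) (b := b) ?_ ?_ ?_ ?_ hcard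
  · rw [← Subgroup.orderOf_coe, ← Subgroup.orderOf_coe]
    show orderOf (W.pc 1 (-1)) = 2 * 2 ^ (m + 1)
    rw [show 2 * 2 ^ (m + 1) = 2 ^ (m + 1 + 1) by ring]
    haveI : Fact (Nat.Prime 2) := ⟨Nat.prime_two⟩
    refine orderOf_eq_prime_pow ?_ ?_
    · rw [pc_pow, pc_eq_one]
      rintro ⟨hd, -⟩
      have := Int.le_of_dvd (by positivity) hd
      push_cast [pow_succ] at this
      have := q_pos m; omega
    · rw [pc_pow, pc_eq_one]
      push_cast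
      exact ⟨⟨1, by ring⟩, ⟨-1, by ring⟩⟩
  · rintro ⟨k, hk⟩
    have h1 := congrArg (fun t : K.subgroupOf (S : Subgroup G) => ((t : ↥(S : Subgroup G)) : G)) hk
    simp only [Subgroup.coe_zpow, a, b] at h1
    rw [pc_zpow] at h1
    exact W.pc_ne_pz _ _ _ _ h1
  · refine Subtype.ext (Subtype.ext ?_)
    simp only [Subgroup.coe_pow, a, b]
    rw [pz_sq, pc_pow, pc_eq_pc]
    push_cast
    exact ⟨⟨0, by ring⟩, ⟨1, by ring⟩⟩
  · refine Subtype.ext (Subtype.ext ?_)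
    simp only [Subgroup.coe_mul, Subgroup.coe_inv, a, b]
    rw [conj_pc_by_pz, pc_inv, pc_eq_pc]
    exact ⟨by simp, by simp⟩

end WRAmb

end Cfsg.Agent.WRFusion
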