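import Cfsg.Agent.Lib.WRFusion.Adapted
import Cfsg.Agent.Lib.QDFusion.IndexTwo
import Cfsg.Agent.S1203

/-!
# Quasi-dihedral or wreathed Sylow 2-subgroups and no subgroup of index two

One class of involutions; the structure of an involution centraliser.
-/

set_option autoImplicit false
set_option linter.style.haveILetI false
set_option linter.unusedSectionVars false

namespace Cfsg.Agent.WRFusion

open TwoGroups

theorem qdGen_map {S S' : Type*} [Group S] [Group S'] {x y : S} {m : ℕ} (h : QDGen x y m) (e : S ≃* S') :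
    QDGen (e x) (e y) m :=
  ⟨by rw [← h.card, Nat.card_congr e.toEquiv], by rw [MulEquiv.orderOf_eq, h.ordX],
    by rw [MulEquiv.orderOf_eq, h.ordY], by rw [← map_inv, ← map_mul, ← map_mul, h.conj, map_zpow]⟩

theorem wrGen_map {S S' : Type*} [Group S] [Group S'] {x y z : S} {n : ℕ} (h : WRGen x y z n)
    (e : S ≃* S') : WRGen (e x) (e y) (e z) n := by
  refine ⟨h.two_le, by rw [← h.card, Nat.card_congr e.toEquiv], by rw [MulEquiv.orderOf_eq, h.ordX],
    h.comm.map e, ?_, by rw [MulEquiv.orderOf_eq, h.ordZ], by rw [← map_inv, ← map_mul, ← map_mul, h.conj]⟩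
  rw [← MulEquiv.coe_toMonoidHom, ← MonoidHom.map_zpowers, ← MonoidHom.map_zpowers,
    ← Subgroup.map_inf _ _ _ e.injective, h.disj, Subgroup.map_bot]

theorem exists_index_two_of_pgroup_quotient {G : Type*} [Group G] [Finite G] (K : Subgroup G) [K.Normal]
    {k : ℕ} (hk : K.index = 2 ^ k) (hne : K ≠ ⊤) : ∃ H : Subgroup G, K ≤ H ∧ H.index = 2 := by
  haveI : Fact (Nat.Prime 2) := ⟨Nat.prime_two⟩
  have hp : IsPGroup 2 (G ⧸ K) := IsPGroup.of_card (n := k) (by rw [← Subgroup.index_eq_card, hk])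
  have hbt : (⊥ : Subgroup (G ⧸ K)) ≠ ⊤ := fun e => hne (by
    have := congrArg (Subgroup.comap (QuotientGroup.mk' K)) e
    rwa [MonoidHom.comap_bot, QuotientGroup.ker_mk', Subgroup.comap_top] at this)
  obtain ⟨M, hM, -⟩ := (eq_top_or_exists_le_coatom (⊥ : Subgroup (G ⧸ K))).resolve_left hbt
  refine ⟨M.comap (QuotientGroup.mk' K), ?_, ?_⟩
  · intro g hg
    rw [Subgroup.mem_comap, show QuotientGroup.mk' K g = 1 from (QuotientGroup.eq_one_iff g).mpr hg]
    exact M.one_mem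
  · rw [Subgroup.index_comap_of_surjective M (QuotientGroup.mk'_surjective K), PGroup.index_of_isCoatom hp hM]

/-- Generators of a quasi-dihedral or wreathed Sylow 2-subgroup. -/
def QDWR {G : Type*} [Group G] (S : Sylow 2 G) : Prop :=
  (∃ x y m, QDGen (S := ↥(S : Subgroup G)) x y m) ∨ ∃ m, Nonempty (WRAmb S m)

theorem qdwr_of_hyp {G : Type*} [Group G] [Finite G] {S : Sylow 2 G}
    (hS : Cfsg.IsQuasiDihedral (S : Subgroup G) ∨ Cfsg.IsWreathed (S : Subgroup G)) : QDWR S := by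
  rcases hS with hS | hS
  · exact Or.inl (exists_qdGen hS)
  · obtain ⟨x, y, z, n, h⟩ := exists_wrGen hS
    obtain ⟨m, rfl⟩ : ∃ m, n = m + 2 := ⟨n - 2, by have := h.two_le; omega⟩
    exact Or.inr ⟨m, ⟨⟨x, y, z, h⟩⟩⟩

theorem qdwr_map {G H : Type*} [Group G] [Group H] {S : Sylow 2 G} {R : Sylow 2 H}
    (e : ↥(S : Subgroup G) ≃* ↥(R : Subgroup H)) (hS : QDWR S) : QDWR R := by
  rcases hS with ⟨x, y, m, h⟩ | ⟨m, ⟨W⟩⟩
  · exact Or.inl ⟨_, _, m, qdGen_map h e⟩
  · exact Or.inr ⟨m, ⟨⟨_, _, _, wrGen_map W.gen e⟩⟩⟩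

section QD

variable {G : Type*} [Group G] [Finite G] {S : Sylow 2 G} {x y : ↥(S : Subgroup G)} {m : ℕ}
  (h : QDGen x y m)
include h

theorem qd_klein : ∃ T : Subgroup G, IsKleinFour T ∧ T ≤ (S : Subgroup G) := by
  set P := h.part (4 * 2 ^ m) (QDGen.dvd_four_self m) 0 with hP
  refine ⟨P.map (S : Subgroup G).subtype, ?_, Subgroup.map_subtype_le _⟩
  have hexp : ∀ s ∈ P, s ^ 2 = 1 := by
    intro s hs
    obtain ⟨i, rfl | rfl⟩ := h.exists_form s
    · rw [h.x_sq_eq_one_iff]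
      rw [hP, h.x_mem_part] at hs
      exact_mod_cast hs
    · rw [h.xy_sq_eq_one_iff]
      rw [hP, h.xy_mem_part, sub_zero] at hs
      push_cast at hs
      exact dvd_trans ⟨2 * 2 ^ m, by ring⟩ hs
  have hcard : Nat.card P = 4 := by
    rw [hP, h.card_part, show 8 * 2 ^ m = 4 * 2 ^ m * 2 by ring, Nat.mul_div_cancel_left _ (by positivity)]
  constructor
  · rw [Subgroup.card_map_of_injective (Subgroup.subtype_injective _), hcard]
  · have hk : Monoid.exponent P = 2 := by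
      refine (Nat.dvd_prime Nat.prime_two).mp (Monoid.exponent_dvd_of_forall_pow_eq_one fun s =>
        Subtype.ext (hexp s.1 s.2)) |>.resolve_left fun h1 => ?_
      rw [Monoid.exp_eq_one_iff] at h1
      have := Finite.card_le_one_iff_subsingleton.mpr h1
      omega
    exact ((Monoid.exponent_eq_of_mulEquiv
      (P.equivMapOfInjective _ (Subgroup.subtype_injective _))).symm).trans hk

theorem qd_quaternion : ∃ Q : Subgroup G, Q ≤ (S : Subgroup G) ∧ Nonempty (Q ≃* QuaternionGroup 2) := by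
  set P := h.part (2 * 2 ^ m) (QDGen.dvd_two_self m) 1 with hP
  have ha : x ^ ((2 : ℤ) * 2 ^ m) ∈ P := by rw [hP, h.x_mem_part]; push_cast; exact dvd_rfl
  have hb : x ^ (1 : ℤ) * y ∈ P := by rw [hP, h.xy_mem_part]; simp
  obtain ⟨e⟩ : Nonempty (P ≃* QuaternionGroup 2) := by
    refine PGroup.quaternionEquivOfRel (a := ⟨_, ha⟩) (b := ⟨_, hb⟩) ?_ ?_ ?_ ?_ ?_
    · rw [Subgroup.orderOf_mk, ← Subgroup.orderOf_coe]
      exact QDFusion.orderOf_aa h
    · rintro ⟨i, hi⟩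
      have h1 : (x ^ ((2 : ℤ) * 2 ^ m)) ^ i = x ^ (1 : ℤ) * y := by simpa using congrArg Subtype.val hi
      rw [← zpow_mul] at h1
      exact h.xy_ne _ _ h1.symm
    · apply Subtype.ext
      show (x ^ (1 : ℤ) * y) ^ 2 = (x ^ ((2 : ℤ) * 2 ^ m)) ^ 2
      rw [h.xy_sq, ← zpow_natCast (x ^ ((2 : ℤ) * 2 ^ m)), ← zpow_mul, h.zpow_eq_iff]
      exact ⟨0, by push_cast; ring⟩
    · apply Subtype.ext
      show x ^ (1 : ℤ) * y * x ^ ((2 : ℤ) * 2 ^ m) * (x ^ (1 : ℤ) * y)⁻¹ = (x ^ ((2 : ℤ) * 2 ^ m))⁻¹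
      exact QDFusion.xy_inverts_aa h 1
    · rw [h.card_part, show 8 * 2 ^ m = 2 * 2 ^ m * 4 by ring, Nat.mul_div_cancel_left _ (by positivity)]
  exact ⟨P.map (S : Subgroup G).subtype, Subgroup.map_subtype_le _,
    ⟨(P.equivMapOfInjective _ (Subgroup.subtype_injective _)).symm.trans e⟩⟩

theorem qd_isConj_zz (hG : ∀ H : Subgroup G, H.index ≠ 2) {u : G} (hu : orderOf u = 2) :
    IsConj u ((QDFusion.zz x m : ↥(S : Subgroup G)) : G) := by
  obtain ⟨T, hT, hTS⟩ := qd_klein h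
  obtain ⟨Q, hQS, ⟨eQ⟩⟩ := qd_quaternion h
  rcases (S1203.result S (by
      refine ⟨m + 3, by omega, ?_, x, y, ?_, h.ordY, ?_⟩
      · rw [h.card]; ring
      · rw [h.ordX]; ring
      · rw [h.conj, ← zpow_natCast, show m + 3 - 1 = m + 2 by omega, Nat.cast_sub Nat.one_le_two_pow]
        congr 1; push_cast; ring) T hT hTS Q hQS eQ).1 with h2 | h6
  · obtain ⟨M, -, hM, -⟩ :=
      QDFusion.exists_index_two_missing_involution h (QDFusion.not_isConj_zz_of_two h hT hTS h2)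
    exact absurd hM (hG M)
  · exact QDFusion.isConj_zz_of_six h hT hTS h6 hu

end QD

section WR

variable {G : Type*} [Group G] [Finite G] {S : Sylow 2 G} {m : ℕ} (W : WRAmb S m)

theorem wr_isConj (hG : ∀ H : Subgroup G, H.index ≠ 2) :
    (W.V ⊔ Subgroup.centralizer (W.V : Set G)).relIndex (Subgroup.normalizer (W.V : Set G)) = 6 ∧
      ∀ u : G, orderOf u = 2 → IsConj u W.cc := by
  have h6 : (W.V ⊔ Subgroup.centralizer (W.V : Set G)).relIndex (Subgroup.normalizer (W.V : Set G)) = 6 := by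
    refine W.relIndex_V.resolve_left fun h2 => ?_
    obtain ⟨hza, hzc⟩ := W.not_isConj_z0_of_two h2
    obtain ⟨M, -, hM, -⟩ := W.exists_index_two hza hzc
    exact hG M hM
  refine ⟨h6, fun u hu => ?_⟩
  have haz := W.isConj_ca_z0_of_six h6
  have hU6 : (Subgroup.centralizer (W.U : Set G)).relIndex (Subgroup.normalizer (W.U : Set G)) = 6 := by
    refine W.relIndex_U.resolve_left fun h2 => ?_
    obtain ⟨K, hKn, hidx, -⟩ := W.exists_quaternion_kernel h2 haz
    haveI := hKn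
    obtain ⟨H, -, hH⟩ := exists_index_two_of_pgroup_quotient K hidx (fun e => by
      rw [e, Subgroup.index_top] at hidx
      have := Nat.one_lt_two_pow (show m + 2 ≠ 0 by omega)
      omega)
    exact hG H hH
  have hac := W.isConj_ca_cc_of_six hU6
  rcases W.isConj_involution hu with h | h | h
  exacts [h.trans hac, h, h.trans (haz.symm.trans hac)]

/-- A subgroup of `Z(S)` is weakly closed when `|N(U):C(U)| = 2` and `|N(V):VC(V)| = 6`. -/
theorem wr_weaklyClosed (h2 : (Subgroup.centralizer (W.U : Set G)).relIndex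
      (Subgroup.normalizer (W.U : Set G)) = 2) (haz : IsConj W.ca W.z0) {Z₀ : Subgroup G} (hZ₀ : Z₀ ≤ W.Zs) :
    Cfsg.IsWeaklyClosed Z₀ (S : Subgroup G) := by
  obtain ⟨K, -, -, -, -, hwc⟩ := W.exists_quaternion_kernel h2 haz
  have hfix : ∀ z ∈ Z₀, ∀ g : G, g * z * g⁻¹ ∈ (S : Subgroup G) → g * z * g⁻¹ = z := by
    intro z hz g hg
    obtain ⟨t, rfl⟩ := W.mem_Zs.1 (hZ₀ hz)
    obtain ⟨i, j, e' | e'⟩ := W.cases hg
    · rcases W.fix_or_swap h2 (W.pc_mem_U t t) (by rw [e']; exact W.pc_mem_U i j) with h | h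
      · exact h
      · rw [h]; exact W.conj_pc_by_pz 0 0 t t
    · exfalso
      have hd := hwc t (i + j) g i j e' rfl
      have hsq : g * W.pc (2 * t) (2 * t) * g⁻¹ = W.pc (i + j) (i + j) := by
        have := congrArg (· ^ 2) e'
        simp only [conj_pow, W.pc_sq, W.pz_sq] at this
        exact this
      have h2t : (4 : ℤ) * 2 ^ m ∣ i + j - 2 * t := by
        rcases W.fix_or_swap h2 (W.pc_mem_U (2 * t) (2 * t)) (hsq ▸ W.pc_mem_U _ _) with h | h <;>
          rw [hsq] at h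
        · exact (W.pc_eq_pc.1 h).1
        · rw [WRAmb.z0, W.conj_pc_by_pz] at h
          exact (W.pc_eq_pc.1 h).1
      have h4 := dvd_sub hd h2t
      rw [show i + j + 2 * 2 ^ m - 2 * t - (i + j - 2 * t) = 2 ^ m * (2 : ℤ) by ring] at h4
      have := four_dvd_of_mul h4
      omega
  refine ⟨hZ₀.trans (Subgroup.map_subtype_le _), fun g hg => Subgroup.eq_of_le_of_card_ge ?_ ?_⟩
  · rintro _ ⟨z, hz, rfl⟩
    show g * z * g⁻¹ ∈ Z₀
    rw [hfix z hz g (hg ⟨z, hz, rfl⟩)]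
    exact hz
  · rw [Subgroup.card_map_of_injective (MulAut.conj g).injective]

end WR

/-- All involutions are conjugate. -/
theorem isConj_of_noIndexTwo {G : Type*} [Group G] [Finite G] {S : Sylow 2 G} (hS : QDWR S)
    (hG : ∀ H : Subgroup G, H.index ≠ 2) {a b : G} (ha : orderOf a = 2) (hb : orderOf b = 2) :
    IsConj a b := by
  rcases hS with ⟨x, y, m, h⟩ | ⟨m, ⟨W⟩⟩
  · exact (qd_isConj_zz h hG ha).trans (qd_isConj_zz h hG hb).symm
  · exact ((wr_isConj W hG).2 a ha).trans ((wr_isConj W hG).2 b hb).symm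

/-- An involution is central in some Sylow 2-subgroup, again quasi-dihedral or wreathed. -/
theorem exists_sylow_central {G : Type*} [Group G] [Finite G] {S : Sylow 2 G} (hS : QDWR S)
    (hG : ∀ H : Subgroup G, H.index ≠ 2) {a : G} (ha : orderOf a = 2) :
    ∃ S' : Sylow 2 G, QDWR S' ∧ a ∈ (S' : Subgroup G) ∧ (S' : Subgroup G) ≤ Subgroup.centralizer ({a} : Set G) := by
  obtain ⟨c, hcS, hco, hSc⟩ : ∃ c ∈ (S : Subgroup G), orderOf c = 2 ∧
      (S : Subgroup G) ≤ Subgroup.centralizer ({c} : Set G) := by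
    rcases hS with ⟨x, y, m, h⟩ | ⟨m, ⟨W⟩⟩
    · exact ⟨_, SetLike.coe_mem _, QDFusion.orderOf_zz h, fun s hs => QDFusion.mem_centralizer_zz h ⟨s, hs⟩⟩
    · exact ⟨W.cc, W.U_le W.cc_mem_U, W.orderOf_cc, W.S_le_centralizer_cc⟩
  obtain ⟨g, hg⟩ := isConj_iff.mp (isConj_of_noIndexTwo hS hG hco ha)
  have e1 : ((g • S : Sylow 2 G) : Subgroup G) = (S : Subgroup G).map (MulAut.conj g).toMonoidHom := by
    rw [Sylow.coe_subgroup_smul]; rfl
  refine ⟨g • S, qdwr_map (((S : Subgroup G).equivMapOfInjective (MulAut.conj g).toMonoidHom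
    (MulAut.conj g).injective).trans (MulEquiv.subgroupCongr e1.symm)) hS, ?_, ?_⟩
  · rw [e1]; exact ⟨c, hcS, hg⟩
  · rw [e1]
    rintro _ ⟨s, hs, rfl⟩
    rw [Subgroup.mem_centralizer_singleton_iff]
    show g * s * g⁻¹ * a = a * (g * s * g⁻¹)
    rw [← hg, conj_mul, conj_mul, Subgroup.mem_centralizer_singleton_iff.mp (hSc hs)]

end Cfsg.Agent.WRFusion
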